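import Mathlib

/-!
Finite groups generated by elements whose squares are products of commutators.
-/

set_option autoImplicit false

namespace Cfsg.Agent.H78.SylAb

open scoped commutatorElement

variable {G H : Type*} [Group G] [Group H]

/-- `L` is generated by elements whose squares lie in its derived subgroup. -/
def Gd (L : Subgroup G) : Prop :=
  L ≤ Subgroup.closure {g | g ∈ L ∧ g * g ∈ ⁅L, L⁆}

theorem gd_bot : Gd (⊥ : Subgroup G) := bot_le

theorem gd_of_sq {L : Subgroup G} (h : ∀ g ∈ L, g * g ∈ ⁅L, L⁆) : Gd L :=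
  fun g hg => Subgroup.subset_closure ⟨hg, h g hg⟩

theorem gd_of_exp_two {L : Subgroup G} (h : ∀ g ∈ L, g * g = 1) : Gd L :=
  gd_of_sq fun g hg => by rw [h g hg]; exact one_mem _

theorem gd_of_generated {L : Subgroup G} (S : Set G) (hS : ∀ g ∈ S, g * g = 1)
    (hL : L = Subgroup.closure S) : Gd L := by
  subst hL
  refine Subgroup.closure_mono fun g hg => ⟨Subgroup.subset_closure hg, ?_⟩
  rw [hS g hg]
  exact one_mem _

theorem gd_mono_step {A L : Subgroup G} (hA : Gd A) (hle : A ≤ L) :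
    A ≤ Subgroup.closure {g | g ∈ L ∧ g * g ∈ ⁅L, L⁆} :=
  hA.trans (Subgroup.closure_mono fun _ hg =>
    ⟨hle hg.1, Subgroup.commutator_mono hle hle hg.2⟩)

theorem gd_sup {A B L : Subgroup G} (hA : Gd A) (hB : Gd B) (hAL : A ≤ L) (hBL : B ≤ L)
    (h : L ≤ A ⊔ B) : Gd L :=
  h.trans (sup_le (gd_mono_step hA hAL) (gd_mono_step hB hBL))

theorem gd_map {L : Subgroup G} (h : Gd L) (f : G →* H) : Gd (L.map f) := by
  refine (Subgroup.map_mono h).trans ?_
  rw [MonoidHom.map_closure]
  refine Subgroup.closure_mono ?_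
  rintro _ ⟨g, ⟨hg, hs⟩, rfl⟩
  refine ⟨Subgroup.mem_map_of_mem f hg, ?_⟩
  rw [← map_mul, ← Subgroup.map_commutator]
  exact Subgroup.mem_map_of_mem f hs

theorem gd_of_map {L : Subgroup G} {f : G →* H} (hf : Function.Injective f) (h : Gd (L.map f)) :
    Gd L := by
  refine (Subgroup.map_le_map_iff_of_injective hf).1 (h.trans ?_)
  rw [MonoidHom.map_closure]
  refine Subgroup.closure_mono ?_
  rintro _ ⟨⟨g, hg, rfl⟩, hs⟩
  refine ⟨g, ⟨hg, ?_⟩, rfl⟩
  rw [← map_mul, ← Subgroup.map_commutator] at hs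
  exact (Subgroup.mem_map_iff_mem hf).1 hs

theorem gd_comap_of_le {L : Subgroup H} (h : Gd L) {f : G →* H} (hf : Function.Injective f)
    (hL : L ≤ f.range) : Gd (L.comap f) :=
  gd_of_map hf (by rwa [Subgroup.map_comap_eq_self hL])

theorem gd_subgroupOf {L K : Subgroup G} (h : Gd L) (hL : L ≤ K) : Gd (L.subgroupOf K) :=
  gd_comap_of_le h K.subtype_injective (by rwa [Subgroup.range_subtype])

/-- The elements whose square lies in the derived subgroup form everything. -/
theorem sq_mem_commutator (h : Gd (⊤ : Subgroup G)) (x : G) : x ^ 2 ∈ commutator G := by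
  rw [← Abelianization.ker_of, MonoidHom.mem_ker, map_pow]
  let φ : G →* Abelianization G := (powMonoidHom 2).comp Abelianization.of
  have hle : Subgroup.closure {g | g ∈ (⊤ : Subgroup G) ∧ g * g ∈ ⁅(⊤ : Subgroup G), ⊤⁆} ≤ φ.ker :=
    (Subgroup.closure_le _).2 fun g hg => by
      rw [SetLike.mem_coe, MonoidHom.mem_ker]
      show Abelianization.of g ^ 2 = 1
      rw [pow_two, ← map_mul, ← MonoidHom.mem_ker, Abelianization.ker_of]
      exact hg.2
  exact MonoidHom.mem_ker.1 (hle (h (Subgroup.mem_top x)))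

theorem concl_of_gd [Finite G] {p : ℕ} [Fact p.Prime] {U : Subgroup G} (hU : IsPGroup p U)
    (hidx : ¬ p ∣ U.index) (hg : Gd U) (P : Sylow p G) :
    ∀ x : (P : Subgroup G), x ^ 2 ∈ commutator (P : Subgroup G) := by
  obtain ⟨g, hgP⟩ := MulAction.exists_smul_eq G (hU.toSylow hidx) P
  have hP : Gd (P : Subgroup G) := by
    rw [← hgP, Sylow.coe_subgroup_smul]
    exact gd_map hg _
  intro x
  refine sq_mem_commutator (gd_of_map (P : Subgroup G).subtype_injective ?_) x
  rwa [← MonoidHom.range_eq_map, Subgroup.range_subtype]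

/-- Transfer to a central quotient of a normal subgroup, up to isomorphism. -/
theorem concl_quotient [Finite G] {p : ℕ} [Fact p.Prime] {U : Subgroup G} (hU : IsPGroup p U)
    (hg : Gd U) {Z : Subgroup G} [Z.Normal] (hidx : ¬ p ∣ U.index) {Q : Type*} [Group Q]
    (e : Q ≃* G ⧸ Z) (P : Sylow p Q) :
    ∀ x : (P : Subgroup Q), x ^ 2 ∈ commutator (P : Subgroup Q) := by
  set f : G →* Q := e.symm.toMonoidHom.comp (QuotientGroup.mk' Z)
  have hf : Function.Surjective f := e.symm.surjective.comp (QuotientGroup.mk'_surjective Z)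
  haveI : Finite Q := Finite.of_equiv _ e.symm.toEquiv
  exact concl_of_gd (hU.map f)
    (fun h => hidx (h.trans (Subgroup.index_map_dvd U hf))) (gd_map hg f) P

end Cfsg.Agent.H78.SylAb
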