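import Cfsg.Agent.H83.Classical.Twisted
import Cfsg.Agent.H78.SylAb.Basic

/-!
Generation of the unitriangular groups of classical groups by elements whose squares are products of
commutators: induction on the weight of a permutation.
-/

set_option autoImplicit false
set_option linter.unusedFintypeInType false
set_option linter.unusedSectionVars false

namespace Cfsg.Agent.H78.SylAb

open Matrix Equiv Cfsg.Agent.Linear Cfsg.Agent.H54 Cfsg.Agent.H52.TwistedBruhat Cfsg.Agent.H83.Classical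
open scoped MatrixGroups

variable {n : ℕ} {F : Type*} [Field F]

theorem mem_out {w : Equiv.Perm (Fin n)} {g : GL (Fin n) F} :
    g ∈ outPart w⁻¹ ↔ g ∈ unitriGL n F ∧
      ∀ a b, w a < w b → (g : Matrix (Fin n) (Fin n) F) a b = 0 := by
  rw [mem_outPart, mem_lowerGL]
  refine and_congr_right fun _ => ⟨fun h a b hab => ?_, fun h i j hij => ?_⟩
  · have := h (w a) (w b) hab
    rwa [perm_conj_apply, Equiv.Perm.inv_def, Equiv.symm_apply_apply, Equiv.symm_apply_apply] at this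
  · rw [perm_conj_apply]
    exact h _ _ (by simpa using hij)

theorem out_one : outPart (F := F) (1 : Equiv.Perm (Fin n))⁻¹ = ⊥ := by
  rw [Subgroup.eq_bot_iff_forall]
  intro g hg
  rw [mem_out] at hg
  exact eq_one_of_triangular (mem_unitri.1 hg.1).1 (mem_lowerGL.2 fun i j h => hg.2 i j h)
    (mem_unitri.1 hg.1).2

/-- The complement of `outPart s⁻¹`. -/
theorem inPart_eq (s : Equiv.Perm (Fin n)) :
    inPart (F := F) s⁻¹ = outPart (Fin.revPerm * s)⁻¹ := by
  ext g
  rw [mem_inPart, mem_out, mem_upper]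
  refine and_congr_right fun _ => ⟨fun h a b hab => ?_, fun h i j hij => ?_⟩
  · have := h (s a) (s b) (by simpa using hab)
    rwa [perm_conj_apply, Equiv.Perm.inv_def, Equiv.symm_apply_apply, Equiv.symm_apply_apply] at this
  · rw [perm_conj_apply]
    exact h _ _ (by simpa using hij)

theorem exists_split_out [Finite F] (s : Equiv.Perm (Fin n)) {v : GL (Fin n) F} (hv : v ∈ unitriGL n F) :
    ∃ x ∈ outPart s⁻¹, ∃ y ∈ outPart (Fin.revPerm * s)⁻¹, v = x * y := by
  obtain ⟨x, hx, y, hy, e⟩ := exists_split s⁻¹ hv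
  exact ⟨x, hx, y, inPart_eq (F := F) s ▸ hy, e⟩

theorem split_unique {s : Equiv.Perm (Fin n)} {x x' y y' : GL (Fin n) F} (hx : x ∈ outPart s⁻¹)
    (hx' : x' ∈ outPart s⁻¹) (hy : y ∈ outPart (Fin.revPerm * s)⁻¹)
    (hy' : y' ∈ outPart (Fin.revPerm * s)⁻¹) (e : x * y = x' * y') : x = x' ∧ y = y' := by
  have e1 : x'⁻¹ * x = y' * y⁻¹ := by
    rw [inv_mul_eq_iff_eq_mul, ← mul_assoc, ← e, mul_inv_cancel_right]
  have h1 := outPart_inf_inPart (mul_mem (inv_mem hx') hx)
    ((inPart_eq (F := F) s).symm ▸ e1 ▸ mul_mem hy' (inv_mem hy))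
  obtain rfl : x = x' := (inv_mul_eq_one.1 h1).symm
  exact ⟨rfl, mul_left_cancel e⟩

theorem rep_conj_apply (d : Fin n → Fˣ) (s : Equiv.Perm (Fin n)) (z : GL (Fin n) F) (a b : Fin n) :
    ((diagGL d * permGL F s * z * (diagGL d * permGL F s)⁻¹ : GL (Fin n) F) : Matrix (Fin n) (Fin n) F) a b =
      (d a : F) * (z : Matrix (Fin n) (Fin n) F) (s⁻¹ a) (s⁻¹ b) * ((d b)⁻¹ : Fˣ) := by
  rw [show diagGL d * permGL F s * z * (diagGL d * permGL F s)⁻¹ =
    diagGL d * ((permGL F s⁻¹)⁻¹ * z * permGL F s⁻¹) * (diagGL d)⁻¹ by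
      rw [← permGL_inv, inv_inv]; group, diag_conj_apply, perm_conj_apply]

/-- The inductive step. -/
theorem gd_step {Gr : Subgroup (GL (Fin n) F)} {w s : Equiv.Perm (Fin n)} {d : Fin n → Fˣ}
    (hs : s * s = 1) (hd : diagGL d * permGL F s ∈ Gr)
    (hinv : ∀ a b, a < b → w a < w b → s a < s b)
    (hsplit : ∀ v ∈ unitriGL n F ⊓ Gr, ∃ x ∈ outPart s⁻¹ ⊓ Gr,
      ∃ y ∈ outPart (Fin.revPerm * s)⁻¹ ⊓ Gr, v = x * y)
    (h1 : Gd (outPart (F := F) s⁻¹ ⊓ Gr)) (h2 : Gd (outPart (F := F) (w * s)⁻¹ ⊓ Gr)) :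
    Gd (outPart (F := F) w⁻¹ ⊓ Gr) := by
  have hsi : s⁻¹ = s := inv_eq_of_mul_eq_one_right hs
  have hss : ∀ a, s (s a) = a := fun a => by rw [← Equiv.Perm.mul_apply, hs, Equiv.Perm.one_apply]
  set m := diagGL d * permGL F s with hm
  have hA : outPart (F := F) s⁻¹ ⊓ Gr ≤ outPart w⁻¹ ⊓ Gr := by
    rintro g ⟨hg, hgG⟩
    obtain ⟨hu, hg⟩ := mem_out.1 hg
    refine ⟨mem_out.2 ⟨hu, fun a b hab => ?_⟩, hgG⟩
    rcases lt_trichotomy a b with h | h | h
    · exact hg a b (hinv a b h hab)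
    · exact absurd hab (by rw [h]; exact lt_irrefl _)
    · exact mem_upper.1 (mem_unitri.1 hu).1 a b h
  set B := (outPart (F := F) (w * s)⁻¹ ⊓ Gr).map (MulAut.conj m).toMonoidHom
  have hB : B ≤ outPart w⁻¹ ⊓ Gr := by
    rintro _ ⟨z, ⟨hz, hzG⟩, rfl⟩
    obtain ⟨hu, hz⟩ := mem_out.1 hz
    have hent : ∀ a b, ((m * z * m⁻¹ : GL (Fin n) F) : Matrix (Fin n) (Fin n) F) a b =
        (d a : F) * (z : Matrix (Fin n) (Fin n) F) (s a) (s b) * ((d b)⁻¹ : Fˣ) := fun a b => by
      rw [hm, rep_conj_apply, hsi]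
    have hzero : ∀ a b, w a < w b → (z : Matrix (Fin n) (Fin n) F) (s a) (s b) = 0 := fun a b h =>
      hz _ _ (by rwa [Equiv.Perm.mul_apply, Equiv.Perm.mul_apply, hss, hss])
    refine ⟨mem_out.2 ⟨mem_unitri.2 ⟨mem_upper.2 fun a b h => ?_, fun a => ?_⟩, fun a b h => ?_⟩,
      Gr.mul_mem (Gr.mul_mem hd hzG) (Gr.inv_mem hd)⟩
    · show ((m * z * m⁻¹ : GL (Fin n) F) : Matrix (Fin n) (Fin n) F) a b = 0
      rw [hent]
      rcases lt_trichotomy (w a) (w b) with h' | h' | h'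
      · rw [hzero a b h', mul_zero, zero_mul]
      · exact absurd (w.injective h') h.ne'
      · rw [mem_upper.1 (mem_unitri.1 hu).1 _ _ (hinv b a h h'), mul_zero, zero_mul]
    · show ((m * z * m⁻¹ : GL (Fin n) F) : Matrix (Fin n) (Fin n) F) a a = 1
      rw [hent, (mem_unitri.1 hu).2, mul_one, Units.mul_inv]
    · show ((m * z * m⁻¹ : GL (Fin n) F) : Matrix (Fin n) (Fin n) F) a b = 0
      rw [hent, hzero a b h, mul_zero, zero_mul]
  refine gd_sup h1 (gd_map h2 _) hA hB fun v hv => ?_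
  obtain ⟨x, hx, y, hy, rfl⟩ := hsplit v ⟨(mem_out.1 hv.1).1, hv.2⟩
  have hyL : y ∈ outPart w⁻¹ ⊓ Gr := by
    simpa using (outPart w⁻¹ ⊓ Gr).mul_mem ((outPart w⁻¹ ⊓ Gr).inv_mem (hA hx)) hv
  refine mul_mem (Subgroup.mem_sup_left hx) (Subgroup.mem_sup_right ?_)
  refine ⟨m⁻¹ * y * m, ⟨?_, Gr.mul_mem (Gr.mul_mem (Gr.inv_mem hd) hy.2) hd⟩, ?_⟩
  · obtain ⟨hu, hyw⟩ := mem_out.1 hyL.1
    have hyI := (mem_out.1 hy.1).2
    set z := m⁻¹ * y * m
    have hent : ∀ a b, (y : Matrix (Fin n) (Fin n) F) (s a) (s b) =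
        (d (s a) : F) * (z : Matrix (Fin n) (Fin n) F) a b * ((d (s b))⁻¹ : Fˣ) := fun a b => by
      conv_lhs => rw [show y = m * z * m⁻¹ by simp only [z]; group]
      rw [hm, rep_conj_apply, hsi, hss, hss]
    have hzero : ∀ a b, (y : Matrix (Fin n) (Fin n) F) (s a) (s b) = 0 →
        (z : Matrix (Fin n) (Fin n) F) a b = 0 := fun a b h => by
      rw [hent] at h
      simpa using h
    refine mem_out.2 ⟨mem_unitri.2 ⟨mem_upper.2 fun a b h => hzero a b ?_, fun a => ?_⟩,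
      fun a b h => hzero a b (hyw _ _ h)⟩
    · rcases lt_trichotomy (s a) (s b) with h' | h' | h'
      · exact hyI _ _ (by simpa [hss] using h)
      · exact absurd (s.injective h') h.ne'
      · exact mem_upper.1 (mem_unitri.1 hu).1 _ _ h'
    · have h := hent a a
      rw [(mem_unitri.1 hu).2, mul_comm (d (s a) : F), mul_assoc, Units.mul_inv, mul_one] at h
      exact h.symm
  · show m * (m⁻¹ * y * m) * m⁻¹ = y
    group

/-- The induction along the weight. -/
theorem gd_induction {Gr : Subgroup (GL (Fin n) F)} (W : Set (Equiv.Perm (Fin n)))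
    (step : ∀ w ∈ W, w ≠ 1 → ∃ (s : Equiv.Perm (Fin n)) (d : Fin n → Fˣ), s * s = 1 ∧ w * s ∈ W ∧
      diagGL d * permGL F s ∈ Gr ∧ (∀ a b, a < b → w a < w b → s a < s b) ∧
      TwData.weight w < TwData.weight (w * s) ∧
      (∀ v ∈ unitriGL n F ⊓ Gr, ∃ x ∈ outPart s⁻¹ ⊓ Gr,
        ∃ y ∈ outPart (Fin.revPerm * s)⁻¹ ⊓ Gr, v = x * y) ∧
      Gd (outPart (F := F) s⁻¹ ⊓ Gr))
    {w : Equiv.Perm (Fin n)} (hw : w ∈ W) : Gd (outPart (F := F) w⁻¹ ⊓ Gr) := by
  suffices key : ∀ (k : ℕ), ∀ w ∈ W, ((n : ℤ) ^ 3 - TwData.weight w).toNat ≤ k →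
      Gd (outPart (F := F) w⁻¹ ⊓ Gr) from key _ w hw le_rfl
  intro k
  induction k using Nat.strong_induction_on with
  | _ k ih =>
    intro w hw hk
    by_cases hne : w = 1
    · rw [hne, out_one, bot_inf_eq]
      exact gd_bot
    obtain ⟨s, d, hs, hws, hd, hinv, hlt, hsplit, hs1⟩ := step w hw hne
    have hb := TwData.weight_le (w * s)
    exact gd_step hs hd hinv hsplit hs1 (ih _ (by omega) (w * s) hws le_rfl)

/-- The conclusion for the full unitriangular group. -/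
theorem gd_full [Finite F] {Gr : Subgroup (GL (Fin n) F)}
    (h : Gd (outPart (F := F) (Fin.revPerm : Equiv.Perm (Fin n))⁻¹ ⊓ Gr)) : Gd (unitriGL n F ⊓ Gr) := by
  rwa [TwData.outPart_rev] at h

/-! ### Squares of unitriangular matrices in characteristic two -/

theorem unitri_sq [CharP F 2] {x : GL (Fin n) F} (hx : x ∈ unitriGL n F)
    (h : ∀ a c, a < c → ∑ b ∈ Finset.univ.filter (fun b => a < b ∧ b < c),
      (x : Matrix (Fin n) (Fin n) F) a b * (x : Matrix (Fin n) (Fin n) F) b c = 0) : x * x = 1 := by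
  classical
  obtain ⟨hu, hd⟩ := mem_unitri.1 hx
  have hup := mem_upper.1 hu
  apply Units.ext
  ext a c
  rw [Units.val_mul, Matrix.mul_apply, Units.val_one]
  rcases lt_trichotomy a c with hac | hac | hac
  · rw [Matrix.one_apply_ne hac.ne, ← Finset.sum_filter_add_sum_filter_not Finset.univ
      (fun b => a < b ∧ b < c), h a c hac, zero_add]
    rw [Finset.sum_eq_add (f := fun b => (x : Matrix (Fin n) (Fin n) F) a b *
      (x : Matrix (Fin n) (Fin n) F) b c) a c hac.ne, hd, hd, one_mul, mul_one, CharTwo.add_self_eq_zero]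
    · intro b hb hb'
      simp only [Finset.mem_filter, Finset.mem_univ, true_and, not_and, not_lt] at hb
      rcases lt_or_gt_of_ne hb'.1 with h' | h'
      · rw [hup a b h', zero_mul]
      · rw [hup b c (lt_of_le_of_ne (hb h') (Ne.symm hb'.2)), mul_zero]
    · intro h'; exact absurd (by simp) h'
    · intro h'; exact absurd (by simp) h'
  · subst hac
    rw [Matrix.one_apply_eq, Finset.sum_eq_single a, hd, one_mul]
    · intro b _ hb
      rcases lt_or_gt_of_ne hb with h' | h'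
      · rw [hup a b h', zero_mul]
      · rw [hup b a h', mul_zero]
    · intro h'; exact absurd (Finset.mem_univ a) h'
  · rw [Matrix.one_apply_ne hac.ne', Finset.sum_eq_zero fun b _ => ?_]
    rcases lt_or_ge b a with h' | h'
    · rw [hup a b h', zero_mul]
    · rw [hup b c (hac.trans_le h'), mul_zero]

theorem out_sq [CharP F 2] {s : Equiv.Perm (Fin n)} {x : GL (Fin n) F} (hx : x ∈ outPart s⁻¹)
    (h : ∀ a b c, a < b → b < c → s b < s a → s c < s b → False) : x * x = 1 := by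
  refine unitri_sq (mem_out.1 hx).1 fun a c _ => Finset.sum_eq_zero fun b hb => ?_
  simp only [Finset.mem_filter, Finset.mem_univ, true_and] at hb
  obtain ⟨hab, hbc⟩ := hb
  rcases lt_trichotomy (s a) (s b) with h1 | h1 | h1
  · rw [(mem_out.1 hx).2 a b h1, zero_mul]
  · exact absurd (s.injective h1) hab.ne
  rcases lt_trichotomy (s b) (s c) with h2 | h2 | h2
  · rw [(mem_out.1 hx).2 b c h2, mul_zero]
  · exact absurd (s.injective h2) hbc.ne
  exact (h a b c hab hbc h1 h2).elim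

theorem inv_entry {x : GL (Fin n) F} (hx : x ∈ unitriGL n F) {a b : Fin n} (hab : a < b)
    (h : ∀ l, a < l → l < b → (x : Matrix (Fin n) (Fin n) F) a l = 0) :
    ((x⁻¹ : GL (Fin n) F) : Matrix (Fin n) (Fin n) F) a b = -(x : Matrix (Fin n) (Fin n) F) a b := by
  have e : ((x * x⁻¹ : GL (Fin n) F) : Matrix (Fin n) (Fin n) F) a b = 0 := by
    rw [mul_inv_cancel, Units.val_one, Matrix.one_apply_ne hab.ne]
  rw [Units.val_mul, Matrix.mul_apply,
    Finset.sum_eq_add (f := fun l => (x : Matrix (Fin n) (Fin n) F) a l *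
      ((x⁻¹ : GL (Fin n) F) : Matrix (Fin n) (Fin n) F) l b) a b hab.ne,
    (mem_unitri.1 hx).2, (mem_unitri.1 (inv_mem hx)).2, one_mul, mul_one] at e
  · exact eq_neg_of_add_eq_zero_left e
  · intro l _ hl
    rcases lt_or_gt_of_ne hl.1 with h' | h'
    · rw [mem_upper.1 (mem_unitri.1 hx).1 a l h', zero_mul]
    rcases lt_or_gt_of_ne hl.2 with h'' | h''
    · rw [h l h' h'', zero_mul]
    · rw [mem_upper.1 (mem_unitri.1 (inv_mem hx)).1 l b h'', mul_zero]
  · intro h'; exact absurd (Finset.mem_univ a) h'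
  · intro h'; exact absurd (Finset.mem_univ b) h'

/-! ### Descents -/

theorem weight_lt {a b : Fin n} (hab : a < b) (u : Equiv.Perm (Fin n)) (hu : u b < u a) :
    TwData.weight u < TwData.weight (u * Equiv.swap a b) := by
  rw [TwData.weight_mul_swap u hab.ne]
  have h1 : (0 : ℤ) < ((b : ℕ) : ℤ) - (a : ℕ) := by
    have : (a : ℕ) < b := hab
    omega
  have h2 : (0 : ℤ) < ((u a : ℕ) : ℤ) - (u b : ℕ) := by
    have : (u b : ℕ) < u a := hu
    omega
  have := mul_pos h1 h2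
  linarith

theorem swap_adj_inv {i j : Fin n} (hij : (j : ℕ) = i + 1) {a b : Fin n} (hab : a < b)
    (h : Equiv.swap i j b < Equiv.swap i j a) : a = i ∧ b = j := by
  simp only [Equiv.swap_apply_def, Fin.lt_def, Fin.ext_iff] at *
  split_ifs at h <;> omega

theorem double_inv {i j : Fin n} (hij : (j : ℕ) = i + 1) (hj : j < j.rev) {a b : Fin n} (hab : a < b)
    (h : (Equiv.swap i j * Equiv.swap j.rev i.rev) b < (Equiv.swap i j * Equiv.swap j.rev i.rev) a) :
    (a = i ∧ b = j) ∨ (a = j.rev ∧ b = i.rev) := by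
  have hvi := Fin.val_rev i
  have hvj := Fin.val_rev j
  have := a.isLt
  have := b.isLt
  simp only [Equiv.Perm.coe_mul, Function.comp_apply, Equiv.swap_apply_def, Fin.lt_def, Fin.ext_iff] at *
  split_ifs at h <;> omega

theorem mid_odd_inv {i j : Fin n} (hij : (j : ℕ) = i + 1) (hj : j.rev = j) {a b : Fin n} (hab : a < b)
    (h : Equiv.swap i i.rev b < Equiv.swap i i.rev a) :
    (a = i ∧ b = j) ∨ (a = j ∧ b = i.rev) ∨ (a = i ∧ b = i.rev) := by
  have hvi := Fin.val_rev i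
  have hvj := Fin.val_rev j
  have := a.isLt
  have := b.isLt
  simp only [Equiv.swap_apply_def, Fin.lt_def, Fin.ext_iff] at *
  split_ifs at h <;> omega

/-- A generator of the symmetric permutations lengthening `w`, with its inversions. -/
theorem exists_sym_step {w : Equiv.Perm (Fin n)} (hw : w ∈ TwData.symPerm n) (hne : w ≠ 1) :
    ∃ s, TwData.SGen s ∧ (∀ a b, a < b → w a < w b → s a < s b) ∧
      TwData.weight w < TwData.weight (w * s) ∧
      ((∀ a b c, a < b → b < c → s b < s a → s c < s b → False) ∨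
        ∃ i j : Fin n, (j : ℕ) = i + 1 ∧ j.rev = j ∧ s = Equiv.swap i i.rev) := by
  have hsym : revConj w = w := hw
  obtain ⟨i₀, j₀, hij₀, hd₀⟩ := TwData.exists_descent hne
  obtain ⟨i, j, ⟨hij, hcase⟩, hd⟩ := TwData.exists_shape hsym hij₀ hd₀
  have hlt : i < j := Fin.lt_def.2 (by omega)
  have flip : ∀ (s : Equiv.Perm (Fin n)), (∀ a b, a < b → s b < s a → w b < w a) →
      ∀ a b, a < b → w a < w b → s a < s b := fun s hs a b hab hwab => by
    rcases lt_trichotomy (s a) (s b) with h | h | h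
    · exact h
    · exact absurd (s.injective h) hab.ne
    · exact absurd (hs a b hab h) (not_lt.2 hwab.le)
  rcases hcase with h | h | h
  · refine ⟨Equiv.swap i j, ⟨i, j, hij, Or.inl ⟨h, rfl⟩⟩, flip _ fun a b hab hs => ?_,
      weight_lt hlt w hd, Or.inl fun a b c hab hbc h1 h2 => ?_⟩
    · obtain ⟨rfl, rfl⟩ := swap_adj_inv hij hab hs
      exact hd
    · exact hlt.ne ((swap_adj_inv hij hbc h2).1.symm.trans (swap_adj_inv hij hab h1).2)
  · have hwj : (w j).rev = w j := by rw [← TwData.rev_comm hsym, h]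
    have hdk : w i.rev < w j := by
      rw [TwData.rev_comm hsym, ← hwj, Fin.rev_lt_rev]
      exact hd
    have hik : i < i.rev := hlt.trans (by rw [← h]; exact Fin.rev_lt_rev.2 hlt)
    refine ⟨Equiv.swap i i.rev, ⟨i, j, hij, Or.inr (Or.inl ⟨h, rfl⟩)⟩, flip _ fun a b hab hs => ?_,
      weight_lt hik w (hdk.trans hd), Or.inr ⟨i, j, hij, h, rfl⟩⟩
    rcases mid_odd_inv hij h hab hs with ⟨rfl, rfl⟩ | ⟨rfl, rfl⟩ | ⟨rfl, rfl⟩
    exacts [hd, hdk, hdk.trans hd]
  · have hji : j.rev < i.rev := Fin.rev_lt_rev.2 hlt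
    have hd' : w i.rev < w j.rev := by
      rw [TwData.rev_comm hsym, TwData.rev_comm hsym, Fin.rev_lt_rev]
      exact hd
    refine ⟨Equiv.swap i j * Equiv.swap j.rev i.rev, ⟨i, j, hij, Or.inr (Or.inr ⟨h, rfl⟩)⟩,
      flip _ fun a b hab hs => ?_, ?_, Or.inl fun a b c hab hbc h1 h2 => ?_⟩
    · rcases double_inv hij h hab hs with ⟨rfl, rfl⟩ | ⟨rfl, rfl⟩
      exacts [hd, hd']
    · rw [← mul_assoc]
      refine (weight_lt hlt w hd).trans (weight_lt hji _ ?_)
      rw [Equiv.Perm.mul_apply, Equiv.Perm.mul_apply,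
        Equiv.swap_apply_of_ne_of_ne ((hlt.trans h).trans hji).ne' (h.trans hji).ne',
        Equiv.swap_apply_of_ne_of_ne (hlt.trans h).ne' h.ne']
      exact hd'
    · rcases double_inv hij h hab h1 with ⟨e1, e2⟩ | ⟨e1, e2⟩ <;>
        rcases double_inv hij h hbc h2 with ⟨e3, e4⟩ | ⟨e3, e4⟩
      · exact hlt.ne (e3.symm.trans e2)
      · exact h.ne (e2.symm.trans e3)
      · exact (hlt.trans h |>.trans hji).ne' (e2.symm.trans e3)
      · exact hji.ne (e3.symm.trans e2)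

end Cfsg.Agent.H78.SylAb
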