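import Cfsg.Agent.H83.Classical.Symplectic
import Cfsg.Agent.H83.Classical.Unitary
import Cfsg.Agent.H83.Classical.OMinusSystem
import Cfsg.Agent.H78.SylAb.GLStep

/-!
The unitriangular groups of the classical groups in characteristic two are generated by elements
whose squares are products of commutators.
-/

set_option autoImplicit false
set_option linter.unusedFintypeInType false
set_option linter.unusedSectionVars false

namespace Cfsg.Agent.H78.SylAb

open Matrix Equiv Cfsg.Agent.Linear Cfsg.Agent.H54 Cfsg.Agent.H52.TwistedBruhat Cfsg.Agent.H83.Classical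
open Cfsg.Agent.H37 NormalForm
open scoped MatrixGroups commutatorElement

variable {n : ℕ} {F : Type*} [Field F] [Finite F] [CharP F 2]

/-! ### The general linear group -/

theorem gd_unitri : Gd (unitriGL n F) := by
  have h : Gd (outPart (F := F) (Fin.revPerm : Equiv.Perm (Fin n))⁻¹ ⊓ ⊤) := by
    refine gd_induction Set.univ (fun w _ hne => ?_) (Set.mem_univ _)
    obtain ⟨i, j, hij, hd⟩ := TwData.exists_descent hne
    have hlt : i < j := Fin.lt_def.2 (by omega)
    refine ⟨Equiv.swap i j, 1, Equiv.swap_mul_self i j, Set.mem_univ _, Subgroup.mem_top _,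
      fun a b hab hw => ?_, weight_lt hlt w hd, fun v hv => ?_, gd_of_exp_two fun x hx => ?_⟩
    · rcases lt_trichotomy (Equiv.swap i j a) (Equiv.swap i j b) with h | h | h
      · exact h
      · exact absurd ((Equiv.swap i j).injective h) hab.ne
      · obtain ⟨rfl, rfl⟩ := swap_adj_inv hij hab h
        exact absurd hd (not_lt.2 hw.le)
    · obtain ⟨x, hx, y, hy, e⟩ := exists_split_out (Equiv.swap i j) hv.1
      exact ⟨x, ⟨hx, Subgroup.mem_top _⟩, y, ⟨hy, Subgroup.mem_top _⟩, e⟩
    · exact out_sq hx.1 fun a b c hab hbc h1 h2 =>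
        hlt.ne ((swap_adj_inv hij hbc h2).1.symm.trans (swap_adj_inv hij hab h1).2)
  simpa using gd_full h

/-! ### The fixed groups of twists -/

theorem twisted_split (T : TwData n F) {s : Equiv.Perm (Fin n)} (hs : s ∈ TwData.symPerm n)
    {v : GL (Fin n) F} (hv : v ∈ unitriGL n F ⊓ T.Grp) :
    ∃ x ∈ outPart s⁻¹ ⊓ T.Grp, ∃ y ∈ outPart (Fin.revPerm * s)⁻¹ ⊓ T.Grp, v = x * y := by
  obtain ⟨x, hx, y, hy, e⟩ := exists_split_out s hv.1
  have hmap : ∀ {w : Equiv.Perm (Fin n)}, w ∈ TwData.symPerm n → ∀ {g : GL (Fin n) F},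
      g ∈ outPart w⁻¹ → T.Θ g ∈ outPart w⁻¹ := fun {w} hw g hg => by
    have h := T.compat.map_Uw w g hg
    rwa [show T.compat.τ w = w from hw] at h
  have hfix : T.Θ v = v := hv.2
  rw [e, map_mul] at hfix
  obtain ⟨h1, h2⟩ := split_unique (hmap hs hx) hx
    (hmap (mul_mem TwData.rev_mem_symPerm hs) hy) hy hfix
  exact ⟨x, ⟨hx, h1⟩, y, ⟨hy, h2⟩, e⟩

theorem gd_twisted (T : TwData n F)
    (hmid : ∀ i j : Fin n, (j : ℕ) = i + 1 → j.rev = j →
      Gd (outPart (F := F) (Equiv.swap i i.rev)⁻¹ ⊓ T.Grp)) :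
    Gd (unitriGL n F ⊓ T.Grp) := by
  refine gd_full (gd_induction (TwData.symPerm n : Set (Equiv.Perm (Fin n))) (fun w hw hne => ?_)
    TwData.rev_mem_symPerm)
  obtain ⟨s, hs, hinv, hlt, hcase⟩ := exists_sym_step hw hne
  refine ⟨s, T.f s, hs.sq, mul_mem hw hs.mem, TwData.Θ_rep_fixed T hs.mem, hinv, hlt,
    fun v hv => twisted_split T hs.mem hv, ?_⟩
  rcases hcase with h | ⟨i, j, hij, hj, rfl⟩
  · exact gd_of_exp_two fun x hx => out_sq hx.1 h
  · exact hmid i j hij hj

theorem gd_symp (m : ℕ) : Gd (unitriGL (m + m) F ⊓ (Symp.data m F).Grp) := by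
  refine gd_twisted _ fun i j hij hj => ?_
  rw [Fin.ext_iff, Fin.val_rev] at hj
  have := j.isLt
  omega

section Unitary

variable {i j k : Fin n} (hij : i < j) (hjk : j < k)

/-- A three parameter element. -/
noncomputable def three (a b c : F) : GL (Fin n) F :=
  xGL hij.ne a * xGL hjk.ne b * xGL (hij.trans hjk).ne c

theorem three_apply (a b c : F) (r s : Fin n) :
    (three hij hjk a b c : Matrix (Fin n) (Fin n) F) r s =
      if r = s then 1 else if r = i ∧ s = j then a else if r = j ∧ s = k then b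
        else if r = i ∧ s = k then c + a * b else 0 := by
  have hik := hij.trans hjk
  simp only [three, mul_xGL_apply, xGL_apply]
  by_cases h0 : r = s
  · subst h0
    by_cases h1 : r = i <;> by_cases h2 : r = j <;> by_cases h3 : r = k <;>
      simp_all [hij.ne, hij.ne', hjk.ne, hjk.ne', hik.ne, hik.ne']
  · by_cases h1 : r = i <;> by_cases h2 : r = j <;> by_cases h3 : s = j <;> by_cases h4 : s = k <;>
      simp_all [hij.ne, hij.ne', hjk.ne, hjk.ne', hik.ne, hik.ne']
    all_goals ring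

theorem three_inj {a b c a' b' c' : F} (h : three hij hjk a b c = three hij hjk a' b' c') :
    a = a' ∧ b = b' ∧ c = c' := by
  have e := fun r s => congrArg (fun g : GL (Fin n) F => (g : Matrix (Fin n) (Fin n) F) r s) h
  have e1 := e i j
  have e2 := e j k
  have e3 := e i k
  simp only [three_apply, hij.ne, hij.ne', hjk.ne, hjk.ne', (hij.trans hjk).ne,
    (hij.trans hjk).ne', if_false, if_true, and_self, and_false, false_and] at e1 e2 e3
  subst e1 e2
  exact ⟨rfl, rfl, add_right_cancel e3⟩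

theorem three_mul (a b c a' b' c' : F) :
    three hij hjk a b c * three hij hjk a' b' c' =
      three hij hjk (a + a') (b + b') (c + c' + a' * b) := by
  have hik := hij.trans hjk
  have cen : ∀ (x y : F), xGL hik.ne x * xGL hij.ne y = xGL hij.ne y * xGL hik.ne x := fun x y =>
    TwData.xGL_mul_comm hik.ne hij.ne hik.ne' hij.ne' x y
  have cen' : ∀ (x y : F), xGL hik.ne x * xGL hjk.ne y = xGL hjk.ne y * xGL hik.ne x := fun x y =>
    TwData.xGL_mul_comm hik.ne hjk.ne hjk.ne' hik.ne' x y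
  calc three hij hjk a b c * three hij hjk a' b' c'
      = xGL hij.ne a * (xGL hjk.ne b * (xGL hik.ne c * xGL hij.ne a')) * xGL hjk.ne b' * xGL hik.ne c' := by
        simp only [three, mul_assoc]
    _ = xGL hij.ne a * ((xGL hjk.ne b * xGL hij.ne a') * xGL hik.ne c) * xGL hjk.ne b' * xGL hik.ne c' := by
        rw [cen, ← mul_assoc (xGL hjk.ne b)]
    _ = (xGL hij.ne a * xGL hij.ne a') * xGL hjk.ne b *
          ((xGL hik.ne (-(a' * b)) * xGL hik.ne c) * xGL hjk.ne b') * xGL hik.ne c' := by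
        rw [TwData.xGL_commutation hij.ne hjk.ne hik.ne]
        simp only [mul_assoc]
    _ = xGL hij.ne (a + a') * xGL hjk.ne (b + b') * xGL hik.ne (c + c' + a' * b) := by
        rw [TwData.xGL_mul_xGL, TwData.xGL_mul_xGL hik.ne, cen', ← mul_assoc (xGL hij.ne (a + a') * _),
          mul_assoc _ (xGL hjk.ne b), TwData.xGL_mul_xGL, mul_assoc, TwData.xGL_mul_xGL,
          CharTwo.neg_eq]
        congr 2
        ring

theorem three_comm (a b l m c c' : F) (hlm : l + m = 1) :
    ⁅three hij hjk a b c, three hij hjk (l * a) (m * b) c'⁆ =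
      three hij hjk a b c * three hij hjk a b c := by
  rw [commutatorElement_def, mul_inv_eq_iff_eq_mul, mul_inv_eq_iff_eq_mul]
  simp only [three_mul]
  congr 1
  · rw [CharTwo.add_self_eq_zero, zero_add, add_comm]
  · rw [CharTwo.add_self_eq_zero, zero_add, add_comm]
  · linear_combination (a * b) * hlm -
      (a * b * m + c + b * (l * a + a)) * (CharTwo.two_eq_zero (R := F))

theorem Θ_three (T : TwData n F) (he : T.e = 1) (hk : k = i.rev) (hj : j.rev = j) (a b c : F) :
    T.Θ (three hij hjk a b c) = three hij hjk (T.σ b) (T.σ a) (T.σ c + T.σ a * T.σ b) := by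
  have hik := hij.trans hjk
  subst hk
  rw [three, map_mul, map_mul, TwData.Θ_xGL, TwData.Θ_xGL, TwData.Θ_xGL]
  simp only [hj, Fin.rev_rev, he, Pi.one_apply, Units.val_one, div_one, mul_one, CharTwo.neg_eq]
  rw [TwData.xGL_commutation hij.ne hjk.ne hik.ne, mul_assoc _ (xGL hik.ne _), TwData.xGL_mul_xGL,
    three, CharTwo.neg_eq]
  congr 2
  ring

end Unitary

theorem gd_unitary {F : Type*} [Field F] [Fintype F] [CharP F 2] {q : ℕ}
    (hF : Fintype.card F = q ^ 2) (n : ℕ) :
    Gd (unitriGL n F ⊓ (Unit.data n hF).Grp) := by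
  refine gd_twisted _ fun i j hij hj => gd_of_sq fun x hx => ?_
  set T := Unit.data n hF
  set k := i.rev with hk
  have hlt : i < j := Fin.lt_def.2 (by omega)
  have hjk : j < k := by rw [← hj, hk, Fin.rev_lt_rev]; exact hlt
  have hik := hlt.trans hjk
  have he : T.e = 1 := rfl
  set a := (x.1 : Matrix (Fin n) (Fin n) F) i j
  set b := (x.1 : Matrix (Fin n) (Fin n) F) j k
  set c := (x.1 : Matrix (Fin n) (Fin n) F) i k + a * b
  obtain ⟨hu, hz⟩ := mem_out.1 hx.1
  have hx3 : x = three hlt hjk a b c := by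
    apply Units.ext
    ext r s
    rw [three_apply]
    split_ifs with h0 h1 h2 h3
    · rw [h0, (mem_unitri.1 hu).2]
    · rw [h1.1, h1.2]
    · rw [h2.1, h2.2]
    · rw [h3.1, h3.2]
      simp only [c, add_assoc, CharTwo.add_self_eq_zero, add_zero]
    · rcases lt_or_gt_of_ne h0 with h | h
      · rcases lt_trichotomy (Equiv.swap i k r) (Equiv.swap i k s) with h' | h' | h'
        · exact hz r s h'
        · exact absurd ((Equiv.swap i k).injective h') h0
        · rcases mid_odd_inv hij hj h h' with e | e | e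
          exacts [absurd e h1, absurd e h2, absurd e h3]
      · exact mem_upper.1 (mem_unitri.1 hu).1 r s h
  have hfix : T.Θ x = x := hx.2
  rw [hx3, Θ_three hlt hjk T he hk hj] at hfix
  obtain ⟨-, hb, hc⟩ := three_inj hlt hjk hfix
  obtain ⟨x₀, hx₀⟩ := Unit.exists_moved hF
  have hσ₀ : T.σ x₀ = x₀ ^ q := rfl
  set t := x₀ + T.σ x₀
  have ht : t ≠ 0 := by
    intro e
    exact hx₀ (hσ₀ ▸ (CharTwo.add_eq_zero.1 e).symm)
  have hσt : T.σ t = t := by simp only [t, map_add, T.hσ, add_comm]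
  set l := x₀ / t
  have hl : l + T.σ l = 1 := by
    simp only [l, map_div₀, hσt, ← add_div]
    exact div_self ht
  set N := l * a * (T.σ l * b)
  have hN : T.σ N = N := by
    have hb' : T.σ b = a := by rw [← hb, T.hσ]
    simp only [N, map_mul, T.hσ, hb, hb']
    ring
  have hy : T.Θ (three hlt hjk (l * a) (T.σ l * b) (l * N)) = three hlt hjk (l * a) (T.σ l * b) (l * N) := by
    rw [Θ_three hlt hjk T he hk hj]
    have hb' : T.σ b = a := by rw [← hb, T.hσ]
    simp only [map_mul, T.hσ, hb, hb', hN]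
    congr 1
    calc T.σ l * N + T.σ l * b * (l * a) = (T.σ l + (l + T.σ l)) * N := by rw [hl]; simp only [N]; ring
      _ = l * N + (T.σ l + T.σ l) * N := by ring
      _ = l * N := by rw [CharTwo.add_self_eq_zero, zero_mul, add_zero]
  have hout : ∀ {r s : Fin n} (h : r < s) (y : F), Equiv.swap i k s < Equiv.swap i k r →
      xGL h.ne y ∈ outPart (F := F) (Equiv.swap i k)⁻¹ := fun h y hs =>
    xGL_mem_outPart h y (by simpa using hs)
  have hymem : three hlt hjk (l * a) (T.σ l * b) (l * N) ∈ outPart (F := F) (Equiv.swap i k)⁻¹ ⊓ T.Grp := by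
    refine ⟨mul_mem (mul_mem (hout hlt _ ?_) (hout hjk _ ?_)) (hout hik _ ?_), hy⟩
    all_goals simp only [Equiv.swap_apply_def, hlt.ne', hjk.ne, hjk.ne', hik.ne', if_true, if_false]
    all_goals assumption
  have h := Subgroup.commutator_mem_commutator hx hymem
  rw [hx3, three_comm hlt hjk a b l (T.σ l) c (l * N) hl, ← hx3] at h
  exact h

/-! ### Orthogonal groups -/

open OPlus in
theorem oplus_split {m : ℕ} {s : Equiv.Perm (Fin (dim m))} (hs : revConj s = s)
    {v : GL (Fin (dim m)) F} (hv : v ∈ unitriGL (dim m) F ⊓ OGrp m F) :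
    ∃ x ∈ outPart s⁻¹ ⊓ OGrp m F, ∃ y ∈ outPart (Fin.revPerm * s)⁻¹ ⊓ OGrp m F, v = x * y := by
  obtain ⟨x, hx, y, hy, e⟩ := exists_split_out s hv.1
  have hmap : ∀ {w : Equiv.Perm (Fin (dim m))}, revConj w = w → ∀ {g : GL (Fin (dim m)) F},
      g ∈ outPart w⁻¹ → θ m F g ∈ outPart w⁻¹ := fun {w} hw g hg => by
    have h := (glCompat m F).map_Uw w g hg
    rwa [show (glCompat m F).τ w = w from hw] at h
  have hfix := OGrp_fixed hv.2
  rw [e, map_mul] at hfix
  obtain ⟨h1, -⟩ := split_unique (hmap hs hx) hx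
    (hmap (show revConj (Fin.revPerm * s) = Fin.revPerm * s from
      (TwData.symPerm _).mul_mem TwData.rev_mem_symPerm hs) hy) hy hfix
  have hxO : x ∈ OGrp m F := by
    refine mem_OGrp_iff.2 ⟨h1, fun j => ?_⟩
    rcases lt_trichotomy (s j) (s j).rev with h | h | h
    · have hxy : x = v * y⁻¹ := by rw [e, mul_inv_cancel_right]
      rw [hxy, qPlus_mul hv.2]
      refine qPlus_of_disjoint fun r => ?_
      obtain ⟨-, hz⟩ := mem_out.1 (inv_mem hy)
      rw [OPlus.col_apply, OPlus.col_apply]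
      by_cases h1 : s j < s r
      · rw [hz r j (by simpa using h1), zero_mul]
      · have h2 : s j < s r.rev := by
          rw [TwData.rev_comm hs]
          exact h.trans_le (Fin.rev_le_rev.2 (not_lt.1 h1))
        rw [hz r.rev j (by simpa using h2), mul_zero]
    · exact absurd h.symm (rev_ne _)
    · refine qPlus_of_disjoint fun r => ?_
      obtain ⟨-, hz⟩ := mem_out.1 hx
      rw [OPlus.col_apply, OPlus.col_apply]
      by_cases h1 : s r < s j
      · rw [hz r j h1, zero_mul]
      · have h2 : s r.rev < s j := by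
          rw [TwData.rev_comm hs]
          exact (Fin.rev_le_rev.2 (not_lt.1 h1)).trans_lt h
        rw [hz r.rev j h2, mul_zero]
  refine ⟨x, ⟨hx, hxO⟩, y, ⟨hy, ?_⟩, e⟩
  rw [show y = x⁻¹ * v by rw [e, inv_mul_cancel_left]]
  exact (OGrp m F).mul_mem ((OGrp m F).inv_mem hxO) hv.2

open OPlus in
theorem gd_oplus (m : ℕ) : Gd (UPlus m F) := by
  refine gd_full (gd_induction (TwData.symPerm (dim m) : Set (Equiv.Perm (Fin (dim m))))
    (fun w hw hne => ?_) TwData.rev_mem_symPerm)
  obtain ⟨s, hs, hinv, hlt, hcase⟩ := exists_sym_step hw hne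
  refine ⟨s, 1, hs.sq, mul_mem hw hs.mem, ?_, hinv, hlt, fun v hv => oplus_split hs.mem hv, ?_⟩
  · rw [diagGL_one, one_mul]
    exact permGL_mem_OGrp hs.mem
  · rcases hcase with h | ⟨i, j, -, hj, -⟩
    · exact gd_of_exp_two fun x hx => out_sq hx.1 h
    · exact absurd hj (rev_ne j)

section OMinus

open OPlus OMinus

variable {m : ℕ} {K : Type*} [Field K] [Finite K] [CharP K 2] {σ : K →+* K}

theorem mid_commutes {s : Equiv.Perm (Fin (dim m))} (h : mid m * s * mid m = s) :
    mid m * (Fin.revPerm * s) * mid m = Fin.revPerm * s := by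
  rw [← mul_assoc, ← rev_mid_comm, mul_assoc Fin.revPerm, mul_assoc Fin.revPerm, h]

theorem ominus_split (hσ : ∀ x, σ (σ x) = x) {s : Equiv.Perm (Fin (dim m))} (hs : revConj s = s)
    (hsm : mid m * s * mid m = s) {v : GL (Fin (dim m)) K}
    (hv : v ∈ unitriGL (dim m) K ⊓ (OGrp m K ⊓ fixedPts (psi m σ))) :
    ∃ x ∈ outPart s⁻¹ ⊓ (OGrp m K ⊓ fixedPts (psi m σ)),
      ∃ y ∈ outPart (Fin.revPerm * s)⁻¹ ⊓ (OGrp m K ⊓ fixedPts (psi m σ)), v = x * y := by
  obtain ⟨x, hx, y, hy, e⟩ := oplus_split hs ⟨hv.1, hv.2.1⟩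
  have hrs : revConj (Fin.revPerm * s) = Fin.revPerm * s :=
    (TwData.symPerm _).mul_mem TwData.rev_mem_symPerm hs
  have h1 := psi_outPart hσ hs hx
  have h2 := psi_outPart hσ hrs hy
  rw [hsm] at h1
  rw [mid_commutes hsm] at h2
  have hfix : psi m σ v = v := hv.2.2
  rw [e, map_mul] at hfix
  obtain ⟨e1, e2⟩ := split_unique h1.1 hx.1 h2.1 hy.1 hfix
  exact ⟨x, ⟨hx.1, hx.2, e1⟩, y, ⟨hy.1, hy.2, e2⟩, e⟩

theorem gd_ominus (hσ : ∀ x, σ (σ x) = x) :
    Gd (unitriGL (dim m) K ⊓ (OGrp m K ⊓ fixedPts (psi m σ))) := by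
  let W : Set (Equiv.Perm (Fin (dim m))) := {w | revConj w = w ∧ mid m * w * mid m = w}
  refine gd_full (gd_induction W (fun w hw hne => ?_) ⟨TwData.rev_mem_symPerm, ?_⟩)
  swap
  · rw [← rev_mid_comm, mul_assoc, mid_sq, mul_one]
  obtain ⟨hwsym, hwm⟩ := hw
  have main : ∀ s : Equiv.Perm (Fin (dim m)), revConj s = s → mid m * s * mid m = s → s * s = 1 →
      (∀ a b, a < b → s b < s a → w b < w a) → TwData.weight w < TwData.weight (w * s) →
      Gd (outPart (F := K) s⁻¹ ⊓ (OGrp m K ⊓ fixedPts (psi m σ))) →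
      ∃ (s : Equiv.Perm (Fin (dim m))) (d : Fin (dim m) → Kˣ), s * s = 1 ∧ w * s ∈ W ∧
      diagGL d * permGL K s ∈ OGrp m K ⊓ fixedPts (psi m σ) ∧ (∀ a b, a < b → w a < w b → s a < s b) ∧
      TwData.weight w < TwData.weight (w * s) ∧
      (∀ v ∈ unitriGL (dim m) K ⊓ (OGrp m K ⊓ fixedPts (psi m σ)),
        ∃ x ∈ outPart s⁻¹ ⊓ (OGrp m K ⊓ fixedPts (psi m σ)),
        ∃ y ∈ outPart (Fin.revPerm * s)⁻¹ ⊓ (OGrp m K ⊓ fixedPts (psi m σ)), v = x * y) ∧
      Gd (outPart (F := K) s⁻¹ ⊓ (OGrp m K ⊓ fixedPts (psi m σ))) := by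
    intro s hs hsm hss hinv hlt hgd
    refine ⟨s, 1, hss, ⟨(TwData.symPerm _).mul_mem hwsym hs, ?_⟩, ?_, fun a b hab hwab => ?_, hlt,
      fun v hv => ominus_split hσ hs hsm hv, hgd⟩
    · conv_rhs => rw [← hwm, ← hsm]
      rw [show mid m * w * mid m * (mid m * s * mid m) = mid m * w * (mid m * mid m) * s * mid m by group,
        mid_sq]
      group
    · rw [diagGL_one, one_mul]
      exact ⟨permGL_mem_OGrp hs, show psi m σ (permGL K s) = permGL K s by rw [psi_perm, hsm]⟩
    · rcases lt_trichotomy (s a) (s b) with h | h | h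
      · exact h
      · exact absurd (s.injective h) hab.ne
      · exact absurd (hinv a b hab h) (not_lt.2 hwab.le)
  obtain ⟨i₀, j₀, hij₀, hd₀⟩ := TwData.exists_descent hne
  obtain ⟨i, j, ⟨hij, hcase⟩, hd⟩ := TwData.exists_shape hwsym hij₀ hd₀
  have hlt : i < j := Fin.lt_def.2 (by omega)
  rcases hcase with h | h | h
  · have e : Equiv.swap i j = mid m := eq_mid_of_shape hij h
    refine main (mid m) mid_sym (by rw [mid_sq, one_mul]) mid_sq
      (fun a b hab hs => ?_) (e ▸ weight_lt hlt w hd) (gd_of_exp_two fun x hx => out_sq hx.1 ?_)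
    · rw [← e] at hs
      obtain ⟨rfl, rfl⟩ := swap_adj_inv hij hab hs
      exact hd
    · intro a b c hab hbc h1 h2
      rw [← e] at h1 h2
      exact hlt.ne ((swap_adj_inv hij hbc h2).1.symm.trans (swap_adj_inv hij hab h1).2)
  · exact absurd h (rev_ne j)
  have hji : j.rev < i.rev := Fin.rev_lt_rev.2 hlt
  have hir : i < i.rev := (hlt.trans h).trans hji
  have hd' : w i.rev < w j.rev := by
    rw [TwData.rev_comm hwsym, TwData.rev_comm hwsym, Fin.rev_lt_rev]
    exact hd
  have hjm : (j : ℕ) ≤ m := by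
    rw [Fin.lt_def, Fin.val_rev] at h
    simp only [dim] at *
    omega
  rcases hjm.lt_or_eq with hjm | hjm
  · refine main _ (isDouble_of hij hjm.le).sgen.mem (mid_comm_of_lt hij hjm) (isDouble_of hij hjm.le).sgen.sq
      (fun a b hab hs => ?_) ?_ (gd_of_exp_two fun x hx => out_sq hx.1 ?_)
    · rcases double_inv hij h hab hs with ⟨rfl, rfl⟩ | ⟨rfl, rfl⟩
      exacts [hd, hd']
    · rw [← mul_assoc]
      refine (weight_lt hlt w hd).trans (weight_lt hji _ ?_)
      rw [Equiv.Perm.mul_apply, Equiv.Perm.mul_apply,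
        Equiv.swap_apply_of_ne_of_ne hir.ne' (h.trans hji).ne',
        Equiv.swap_apply_of_ne_of_ne (hlt.trans h).ne' h.ne']
      exact hd'
    · intro a b c hab hbc h1 h2
      rcases double_inv hij h hab h1 with ⟨e1, e2⟩ | ⟨e1, e2⟩ <;>
        rcases double_inv hij h hbc h2 with ⟨e3, e4⟩ | ⟨e3, e4⟩
      · exact hlt.ne (e3.symm.trans e2)
      · exact h.ne (e2.symm.trans e3)
      · exact hir.ne' (e2.symm.trans e3)
      · exact hji.ne (e3.symm.trans e2)
  · obtain rfl : j = midA m := Fin.ext hjm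
    set B := (midA m).rev with hB'
    have hA : ((midA m : Fin (dim m)) : ℕ) = m := rfl
    have hB : (B : ℕ) = m + 1 := midA_rev_val
    have hI : ((i.rev : Fin (dim m)) : ℕ) = m + 2 := by
      rw [Fin.val_rev]; simp only [dim] at *; omega
    have hwA := (image_pair hwm (midA m)).2 (Or.inl hA)
    have hwB := (image_pair hwm B).2 (Or.inr hB)
    have hwi : ¬ ((w i : ℕ) = m ∨ (w i : ℕ) = m + 1) := by rw [image_pair hwm]; omega
    have hwk : ((w i.rev : ℕ) + (w i : ℕ) + 1) = dim m := by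
      rw [TwData.rev_comm hwsym, Fin.val_rev]
      have := (w i).isLt
      omega
    have hbig : m + 1 < (w i : ℕ) := by
      rw [Fin.lt_def] at hd
      omega
    have hinv : ∀ a b : Fin (dim m), a < b → Equiv.swap i i.rev b < Equiv.swap i i.rev a →
        (a = i ∧ b = midA m) ∨ (a = i ∧ b = B) ∨ (a = midA m ∧ b = i.rev) ∨ (a = B ∧ b = i.rev) ∨
          (a = i ∧ b = i.rev) := by
      intro a b hab hs
      simp only [Equiv.swap_apply_def, Fin.lt_def, Fin.ext_iff] at *
      split_ifs at hs <;> omega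
    refine main (Equiv.swap i i.rev) (by rw [TwData.revConj_swap, Fin.rev_rev, Equiv.swap_comm])
      (by rw [conj_swap, mid_of_ne (x := i) (by omega) (by omega),
        mid_of_ne (x := i.rev) (by omega) (by omega)])
      (Equiv.swap_mul_self _ _) (fun a b hab hs => ?_) (weight_lt hir w ?_)
      (gd_of_exp_two fun x hx => ?_)
    · rcases hinv a b hab hs with ⟨rfl, rfl⟩ | ⟨rfl, rfl⟩ | ⟨rfl, rfl⟩ | ⟨rfl, rfl⟩ | ⟨rfl, rfl⟩ <;>
        rw [Fin.lt_def] <;> simp only [dim] at * <;> omega
    · rw [Fin.lt_def]; simp only [dim] at *; omega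
    obtain ⟨hu, hz⟩ := mem_out.1 hx.1
    set X := (x : Matrix (Fin (dim m)) (Fin (dim m)) K)
    have hsupp : ∀ a b, a < b → X a b ≠ 0 →
        (a = i ∧ b = midA m) ∨ (a = i ∧ b = B) ∨ (a = midA m ∧ b = i.rev) ∨ (a = B ∧ b = i.rev) ∨
          (a = i ∧ b = i.rev) := fun a b hab hne' => by
      refine hinv a b hab ?_
      rcases lt_trichotomy (Equiv.swap i i.rev a) (Equiv.swap i i.rev b) with h' | h' | h'
      · exact absurd (hz a b h') hne'
      · exact absurd ((Equiv.swap i i.rev).injective h') hab.ne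
      · exact h'
    have hθ := OGrp_fixed hx.2.1
    have hrel : ∀ a b : Fin (dim m), i < a → a < i.rev → b = a.rev → (a = midA m ∨ a = B) →
        X i b = X a i.rev := by
      intro a b h1 h2 hb hab
      conv_lhs => rw [show X = (θ m K x : Matrix (Fin (dim m)) (Fin (dim m)) K) by rw [hθ]]
      rw [θ, theta_apply, hb, Fin.rev_rev, RingHom.id_apply, inv_entry hu h2 fun l hl hl' => ?_,
        CharTwo.neg_eq]
      by_contra hne'
      rcases hsupp a l hl hne' with e | e | e | e | e
      · exact h1.ne' e.1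
      · exact h1.ne' e.1
      · exact hl'.ne e.2
      · exact hl'.ne e.2
      · exact h1.ne' e.1
    have r1 := hrel (midA m) B hlt (Fin.lt_def.2 (by omega)) rfl (Or.inl rfl)
    have r2 := hrel B (midA m) (Fin.lt_def.2 (by omega)) (Fin.lt_def.2 (by omega))
      (Fin.rev_rev _).symm (Or.inr rfl)
    refine unitri_sq hu fun a c hac => ?_
    by_cases hac' : a = i ∧ c = i.rev
    · rw [hac'.1, hac'.2] at hac ⊢
      rw [Finset.sum_eq_add (f := fun b => X i b * X b i.rev) (midA m) B
        (by rw [Ne, Fin.ext_iff]; omega)]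
      · show X i (midA m) * X (midA m) i.rev + X i B * X B i.rev = 0
        rw [← r1, ← r2, mul_comm (X i (midA m)), CharTwo.add_self_eq_zero]
      · intro b hb hb'
        simp only [Finset.mem_filter, Finset.mem_univ, true_and] at hb
        refine mul_eq_zero_of_left ?_ _
        by_contra hne'
        rcases hsupp i b hb.1 hne' with e | e | e | e | e
        · exact hb'.1 e.2
        · exact hb'.2 e.2
        · exact hlt.ne e.1
        · exact hb.2.ne e.2
        · exact hb.2.ne e.2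
      · intro h'; exact absurd (Finset.mem_filter.2 ⟨Finset.mem_univ _, Fin.lt_def.2 (by omega), Fin.lt_def.2 (by omega)⟩) h'
      · intro h'; exact absurd (Finset.mem_filter.2 ⟨Finset.mem_univ _, Fin.lt_def.2 (by omega), Fin.lt_def.2 (by omega)⟩) h'
    · refine Finset.sum_eq_zero fun b hb => ?_
      simp only [Finset.mem_filter, Finset.mem_univ, true_and] at hb
      by_contra hne'
      rw [mul_eq_zero, not_or] at hne'
      have e1 := hsupp a b hb.1 hne'.1
      have e2 := hsupp b c hb.2 hne'.2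
      simp only [Fin.ext_iff] at e1 e2 hac'
      omega

end OMinus

end Cfsg.Agent.H78.SylAb
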