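import Cfsg.Agent.H83.Classical.OMinusGroup
import Cfsg.Agent.H78.SylAb.Classical

/-!
Sylow 2-subgroups of the classical simple groups in characteristic two have elementary abelian
abelianization.
-/

set_option autoImplicit false
set_option linter.unusedFintypeInType false
set_option linter.unusedSectionVars false
set_option linter.deprecated false
set_option linter.style.haveILetI false

namespace Cfsg.Agent.H78.SylAb

open Matrix Equiv Cfsg.Agent.Linear Cfsg.Agent.H54 Cfsg.Agent.H52 Cfsg.Agent.H52.TwistedBruhat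
open Cfsg.Agent.H83.Classical Cfsg.Agent.H37 NormalForm
open scoped MatrixGroups

/-- The statement about one group. -/
abbrev Concl (G : Type*) [Group G] : Prop :=
  ∀ (P : Sylow 2 G) (x : (P : Subgroup G)), x ^ 2 ∈ commutator (P : Subgroup G)

theorem concl_of_equiv {G Q : Type*} [Group G] [Group Q] [Finite Q] (e : G ≃* Q) (h : Concl Q) :
    Concl G := by
  intro P x
  haveI : Finite G := Finite.of_equiv _ e.symm.toEquiv
  have hsurj : Function.Surjective e.toMonoidHom := e.surjective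
  set P' := P.mapSurjective hsurj
  let φ : (P : Subgroup G) ≃* (P' : Subgroup Q) :=
    ((P : Subgroup G).equivMapOfInjective e.toMonoidHom e.injective).trans
      (MulEquiv.subgroupCongr (P.coe_mapSurjective hsurj).symm)
  have hx : φ (x ^ 2) ∈ commutator (P' : Subgroup Q) := by
    rw [map_pow]
    exact h P' (φ x)
  have hmap : (commutator (P : Subgroup G)).map φ.toMonoidHom = commutator (P' : Subgroup Q) := by
    rw [commutator_def, commutator_def, Subgroup.map_commutator,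
      Subgroup.map_top_of_surjective φ.toMonoidHom φ.surjective]
  rw [← hmap] at hx
  exact (Subgroup.mem_map_iff_mem (f := φ.toMonoidHom) φ.injective).1 hx

/-- The index of `U` in a normal subgroup of a group with a split Tits system. -/
theorem index_not_dvd {G W : Type*} [Group G] [Group W] [Finite G] [Finite W] (A : Tits.Ambient G W)
    {N : Subgroup G} [N.Normal] (hU : A.U ≤ N) {p : ℕ} [hp : Fact p.Prime] (hUp : IsPGroup p ↥A.U)
    (hHp : ¬ p ∣ Nat.card ↥A.H) (hne : ∀ w, w ≠ 1 → A.Uw w ≠ ⊥) :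
    ¬ p ∣ (A.U.subgroupOf N).index := by
  classical
  let _instW : Fintype W := Fintype.ofFinite W
  set A' := restrict A hU
  have hH' : ¬ p ∣ Nat.card ↥A'.H := fun h => hHp (h.trans (by
    rw [← Subgroup.card_map_of_injective (f := N.subtype) N.subtype_injective]
    exact Subgroup.card_dvd_of_le (Subgroup.map_le_iff_le_comap.2 le_rfl)))
  have hsum : ¬ p ∣ ∑ w, Nat.card (A'.Uw w) := by
    intro hd
    rw [← Finset.add_sum_erase _ _ (Finset.mem_univ (1 : W)), A'.Uw_one, Subgroup.card_bot] at hd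
    have h2 : p ∣ ∑ w ∈ (Finset.univ : Finset W).erase 1, Nat.card (A'.Uw w) := by
      refine Finset.dvd_sum fun w hw => ?_
      rw [card_restrict_Uw]
      obtain ⟨b, hb⟩ := IsPGroup.iff_card.1 (hUp.to_le (A.Uw_le w))
      rcases b with _ | b
      · exact absurd (Subgroup.card_eq_one.1 (by rw [hb, pow_zero])) (hne w (Finset.mem_erase.1 hw).1)
      · rw [hb]; exact dvd_pow_self p b.succ_ne_zero
    exact hp.out.not_dvd_one ((Nat.dvd_add_left h2).1 hd)
  have hcard : (A.U.subgroupOf N).index = Nat.card ↥A'.H * ∑ w, Nat.card (A'.Uw w) := by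
    have h1 : Nat.card ↥(A.U.subgroupOf N) * (A.U.subgroupOf N).index = Nat.card ↥N :=
      Subgroup.card_mul_index _
    have h2 : Nat.card ↥N = Nat.card ↥A'.U * (Nat.card ↥A'.H * ∑ w, Nat.card (A'.Uw w)) := by
      rw [A'.toNormalForm.card_eq, mul_assoc]
    exact Nat.eq_of_mul_eq_mul_left Nat.card_pos (h1.trans h2)
  rw [hcard]
  exact fun h => (hp.out.dvd_mul.1 h).elim hH' hsum

theorem concl_tits {G W : Type*} [Group G] [Group W] [Finite G] [Finite W] (A : Tits.Ambient G W)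
    {N : Subgroup G} [N.Normal] (hU : A.U ≤ N) (hUp : IsPGroup 2 ↥A.U)
    (hHp : ¬ 2 ∣ Nat.card ↥A.H) (hne : ∀ w, w ≠ 1 → A.Uw w ≠ ⊥) (hg : Gd A.U) {Q : Type*} [Group Q]
    (e : Q ≃* ↥N ⧸ Subgroup.center ↥N) : Concl Q := fun P =>
  concl_quotient (p := 2) (U := A.U.subgroupOf N) hUp.comap_subtype (gd_subgroupOf hg hU)
    (index_not_dvd A hU hUp hHp hne) e P

/-! ### The families -/

theorem concl_psl {F : Type*} [Field F] [Fintype F] [CharP F 2] (n : ℕ) :
    Concl (Matrix.ProjectiveSpecialLinearGroup (Fin n) F) := fun P => by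
  have hg : Gd (unitriSL n F) := gd_comap_of_le gd_unitri toGL_injective unitriGL_le_range_toGL
  exact concl_quotient (p := 2) (U := unitriSL n F) (unitriSylowSL n F 2).isPGroup' hg
    (unitriSylowSL n F 2).not_dvd_index (MulEquiv.refl _) P

theorem concl_twisted {n : ℕ} {F : Type*} [Field F] [Finite F] [CharP F 2] (T : TwData n F)
    (hg : Gd (unitriGL n F ⊓ T.Grp)) (N : Subgroup ↥T.Grp) [N.Normal]
    (hN : (unitriGL n F).subgroupOf T.Grp ≤ N) {Q : Type*} [Group Q]
    (e : Q ≃* ↥N ⧸ Subgroup.center ↥N) : Concl Q := by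
  cases nonempty_fintype F
  refine concl_tits T.system (hU := hN) ((isPGroup_unitriGL (n := n) (F := F) 2).comap_subtype)
    ?_ ?_ ?_ e
  · intro h
    refine TwData.not_dvd_card_torus (n := n) (F := F) 2 (h.trans ?_)
    rw [← Subgroup.card_map_of_injective (f := T.Grp.subtype) T.Grp.subtype_injective]
    exact Subgroup.card_dvd_of_le (Subgroup.map_le_iff_le_comap.2 le_rfl)
  · intro w hw
    obtain ⟨v, hv, hvf, hv1⟩ := T.exists_fixed_out w.2 (fun e => hw (Subtype.ext e))
    intro hbot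
    have : (⟨v, hvf⟩ : ↥T.Grp) ∈ (⊥ : Subgroup ↥T.Grp) := hbot ▸ (hv : v ∈ outPart _)
    exact hv1 (congrArg Subtype.val (Subgroup.mem_bot.1 this))
  · have h := gd_subgroupOf hg (inf_le_right : unitriGL n F ⊓ T.Grp ≤ T.Grp)
    rwa [Subgroup.inf_subgroupOf_right] at h

theorem concl_psp {F : Type*} [Field F] [Fintype F] [CharP F 2] (m : ℕ) :
    Concl (Cfsg.PSp m F) :=
  concl_twisted (Symp.data m F) (gd_symp m) ⊤ le_top
    (centerQuot (((MonoidHom.ofInjective (Symp.toGrp_injective m F)).trans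
      (MulEquiv.subgroupCongr (Symp.range_toGrp m F))).trans Subgroup.topEquiv.symm))

theorem concl_psu {F : Type*} [Field F] [Fintype F] [CharP F 2] {n q : ℕ}
    (hF : Fintype.card F = q ^ 2) : Concl (Cfsg.PSU n F q) := by
  obtain ⟨Q, hQ⟩ := Unit.exists_frame hF n
  set T := Unit.data n hF
  let N : Subgroup ↥T.Grp := (GeneralLinearGroup.det.comp T.Grp.subtype).ker
  have hN : (unitriGL n F).subgroupOf T.Grp ≤ N := fun g hg => MonoidHom.mem_ker.2 (Units.ext (by
    show Matrix.det ((g : GL (Fin n) F) : Matrix (Fin n) (Fin n) F) = 1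
    have hg' : (g : GL (Fin n) F) ∈ unitriGL n F := hg
    rw [blockTriangular_det (mem_unitri.1 hg').1]
    exact Finset.prod_eq_one fun i _ => (mem_unitri.1 hg').2 i))
  have hrange : (UnitaryTwoPSU.toG n F q Q).range = N.map T.Grp.subtype := by
    rw [UnitaryTwoPSU.range_toG hF hQ]
    ext g
    rw [UnitaryTwo.mem_G, Subgroup.mem_map]
    constructor
    · rintro ⟨h1, h2⟩
      exact ⟨⟨g, show T.Θ g = g by rw [Unit.data_Θ]; exact h1⟩, h2, rfl⟩
    · rintro ⟨⟨x, hx⟩, hxN, rfl⟩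
      refine ⟨?_, hxN⟩
      show theta _ x = x
      rw [← Unit.data_Θ hF]
      exact hx
  exact concl_twisted T (gd_unitary hF n) N hN (centerQuot
    (((MonoidHom.ofInjective (UnitaryTwoPSU.toG_injective (q := q) Q)).trans
      (MulEquiv.subgroupCongr hrange)).trans
      (N.equivMapOfInjective _ T.Grp.subtype_injective).symm))

open OPlus in
theorem concl_plus {m : ℕ} {F : Type*} [Field F] [Finite F] [CharP F 2] (N : Subgroup ↥(GPlus m F))
    [N.Normal] (hN : (UPlus m F).subgroupOf (GPlus m F) ≤ N) {Q : Type*} [Group Q]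
    (e : Q ≃* ↥N ⧸ Subgroup.center ↥N) : Concl Q := by
  cases nonempty_fintype F
  refine concl_tits (plusAmb m F) (hU := hN) ?_ ?_ ?_ (gd_subgroupOf (gd_oplus m) (fun _ h => UPlus_le h)) e
  · have h1 : IsPGroup 2 ↥(UPlus m F) := (isPGroup_unitriGL (n := dim m) (F := F) 2).to_le inf_le_left
    exact h1.comap_subtype
  · intro h
    refine TwData.not_dvd_card_torus (n := dim m) (F := F) 2 (h.trans ?_)
    rw [← Subgroup.card_map_of_injective (f := (GPlus m F).subtype) (GPlus m F).subtype_injective]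
    exact Subgroup.card_dvd_of_le ((Subgroup.map_le_iff_le_comap.2 le_rfl).trans inf_le_left)
  · intro w hw
    obtain ⟨i, j, hij, hj, hd⟩ := exists_root w.2 (fun e => hw (Subtype.ext e))
    obtain ⟨v, hv, hvw, hv1⟩ := exists_plus_out (F := F) (WPlus_le_sym w.2) hij hj hd
    intro hbot
    have : (⟨v, UPlus_le hv⟩ : ↥(GPlus m F)) ∈ (⊥ : Subgroup ↥(GPlus m F)) := hbot ▸ ⟨hvw, hv.2⟩
    exact hv1 (congrArg Subtype.val (Subgroup.mem_bot.1 this))

open OPlus Orthogonal in
theorem concl_pomega_plus {F : Type*} [Field F] [Fintype F] [CharP F 2] {m : ℕ} (hm : m ≠ 1) :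
    Concl (Cfsg.POmega F (Cfsg.quadFormPlus (m + 1) F)) := by
  set Ω := Cfsg.Omega F (Cfsg.quadFormPlus (m + 1) F) with hΩ
  set Ω' := Ω.map (isoO m F) with hΩ'
  let N : Subgroup ↥(GPlus m F) := Ω'.subgroupOf (GPlus m F)
  haveI : N.Normal := ⟨fun x hx g => by
    obtain ⟨a, ha, e⟩ := hx
    obtain ⟨b, hb⟩ : (g : GL (Fin (dim m)) F) ∈ (isoO m F).range := by
      rw [range_isoO]; exact GPlus_le_OGrp g.2
    refine ⟨b * a * b⁻¹, (inferInstance : Ω.Normal).conj_mem a ha b, ?_⟩
    rw [map_mul, map_mul, map_inv, hb, e]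
    rfl⟩
  exact concl_plus N (fun u hu => UPlus_le_omega_two CharTwo.two_eq_zero (Or.inr hm) hu)
    (centerQuot ((Ω.equivMapOfInjective (isoO m F) isoO_injective).trans
      (Subgroup.subgroupOfEquivOfLe omega_le_GPlus).symm))

open OPlus OMinus in
theorem concl_minus {m : ℕ} {K : Type*} [Field K] [Finite K] [CharP K 2] {σ : K →+* K}
    (hσ : ∀ x, σ (σ x) = x) (N : Subgroup ↥(fixedPts (psiP m hσ))) [N.Normal]
    (hN : ∀ g : ↥(fixedPts (psiP m hσ)), ((g : ↥(GPlus m K)) : GL (Fin (dim m)) K) ∈ UPlus m K → g ∈ N)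
    {Q : Type*} [Group Q] (e : Q ≃* ↥N ⧸ Subgroup.center ↥N) : Concl Q := by
  cases nonempty_fintype K
  refine concl_tits (minusAmb m hσ) (hU := fun g hg => hN g ((mem_U_iff hσ).1 hg)) ?_ ?_ ?_ ?_ e
  · have h1 : IsPGroup 2 ↥(UPlus m K) := (isPGroup_unitriGL (n := dim m) (F := K) 2).to_le inf_le_left
    exact (h1.comap_subtype (H := UPlus m K) (K := GPlus m K)).comap_subtype (K := fixedPts (psiP m hσ))
  · intro h
    refine TwData.not_dvd_card_torus (n := dim m) (F := K) 2 (h.trans ?_)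
    rw [← Subgroup.card_map_of_injective (f := (GPlus m K).subtype.comp (fixedPts (psiP m hσ)).subtype)
      ((GPlus m K).subtype_injective.comp (fixedPts (psiP m hσ)).subtype_injective)]
    refine Subgroup.card_dvd_of_le ?_
    rintro _ ⟨g, hg, rfl⟩
    exact (show ((g : ↥(GPlus m K)) : GL (Fin (dim m)) K) ∈ HPlus m K from hg).1
  · intro w hw hbot
    have hwsym : revConj w.1.1 = w.1.1 := WPlus_le_sym w.1.2
    suffices h : ∃ v : ↥(GPlus m K), (v : GL (Fin (dim m)) K) ∈ outPart w.1.1⁻¹ ⊓ OGrp m K ∧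
        psiP m hσ v = v ∧ v ≠ 1 by
      obtain ⟨v, hv, hfix, hne⟩ := h
      have : (⟨v, hfix⟩ : ↥(fixedPts (psiP m hσ))) ∈ (⊥ : Subgroup ↥(fixedPts (psiP m hσ))) :=
        hbot ▸ ((mem_Uw_iff hσ).2 hv)
      exact hne (congrArg Subtype.val (Subgroup.mem_bot.1 this))
    rcases OMinus.exists_descent w.2 (fun e => hw (Subtype.ext e)) with ⟨i, j, hij, hj, hd⟩ | ⟨i, hi, hd⟩
    · have hlt : i < j := Fin.lt_def.2 (by omega)
      have hjr : j < j.rev := by rw [Fin.lt_def, Fin.val_rev]; simp only [dim] at *; omega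
      have hO := rootPair_mem_OGrp (F := K) hlt hjr
      exact ⟨⟨rootPair hlt.ne, UPlus_le ⟨rootPair_unitri hlt, hO⟩⟩, ⟨rootPair_outPart hlt hwsym hd, hO⟩,
        Subtype.ext (psi_rootPair hij hj hlt.ne),
        fun e => rootPair_ne_one hlt.ne (hjr.trans (Fin.rev_lt_rev.2 hlt)).ne (congrArg Subtype.val e)⟩
    · have hA : ((midA m : Fin (dim m)) : ℕ) = m := rfl
      have hB := midA_rev_val (m := m)
      have hlt : i < midA m := Fin.lt_def.2 (by omega)
      have hjr : midA m < (midA m).rev := Fin.lt_def.2 (by omega)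
      have hO := rootPair_mem_OGrp (F := K) hlt hjr
      obtain ⟨-, hne⟩ := short_fixed (σ := σ) hi hlt.ne
      have hout : rootPair (F := K) hlt.ne ∈ outPart w.1.1⁻¹ := by
        refine rootPair_outPart hlt hwsym ?_
        have h2 := (image_pair w.2 (midA m)).2 (Or.inl hA)
        rw [Fin.lt_def]
        omega
      have hout' := psi_outPart hσ hwsym ⟨hout, hO⟩
      rw [show mid m * w.1.1 * mid m = w.1.1 from w.2] at hout'
      have hmem : rootPair (F := K) hlt.ne * psi m σ (rootPair hlt.ne) ∈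
          outPart (F := K) w.1.1⁻¹ ⊓ OGrp m K :=
        (outPart (F := K) w.1.1⁻¹ ⊓ OGrp m K).mul_mem ⟨hout, hO⟩ hout'
      exact ⟨⟨_, (short_mem m hσ hi hlt).1⟩, hmem, Subtype.ext (short_mem m hσ hi hlt).2,
        fun e => hne (congrArg Subtype.val e)⟩
  · set L := unitriGL (dim m) K ⊓ (OGrp m K ⊓ fixedPts (psi m σ))
    set f := (GPlus m K).subtype.comp (fixedPts (psiP m hσ)).subtype
    have hf : Function.Injective f :=
      (GPlus m K).subtype_injective.comp (fixedPts (psiP m hσ)).subtype_injective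
    have hL : L ≤ f.range := fun g hg =>
      ⟨⟨⟨g, UPlus_le ⟨hg.1, hg.2.1⟩⟩, Subtype.ext hg.2.2⟩, rfl⟩
    have heq : (minusAmb m hσ).U = L.comap f := by
      ext g
      rw [mem_U_iff]
      exact ⟨fun h => ⟨h.1, h.2, congrArg Subtype.val g.2⟩, fun h => ⟨h.1, h.2.1⟩⟩
    rw [heq]
    exact gd_comap_of_le (gd_ominus hσ) hf hL

open OPlus OMinus Orthogonal in
theorem concl_pomega_minus {F : Type*} [Field F] [Fintype F] [CharP F 2] (m : ℕ) {a b : F}
    (hab : ∀ z₁ z₂ : F, z₁ ^ 2 + a * z₁ * z₂ + b * z₂ ^ 2 = 0 → z₁ = 0 ∧ z₂ = 0) :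
    Concl (Cfsg.POmega F (Cfsg.quadFormMinus m F a b)) := by
  obtain ⟨K, _, ⟨E⟩⟩ := exists_quadExt hab
  haveI : Finite K := Finite.of_surjective (fun cd : F × F => E.ι cd.1 + E.ω * E.ι cd.2) fun x => by
    obtain ⟨c, d, e⟩ := E.span x
    exact ⟨(c, d), e.symm⟩
  haveI : CharP K 2 := charP_of_injective_ringHom E.ι.injective 2
  set Ω := Cfsg.Omega F (Cfsg.quadFormMinus m F a b)
  let f : ↥(fixedPts (psiP m E.σσ)) →* GL (Fin (dim m)) K :=
    (GPlus m K).subtype.comp (fixedPts (psiP m E.σσ)).subtype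
  have hf : Function.Injective f := (GPlus m K).subtype_injective.comp (fixedPts (psiP m E.σσ)).subtype_injective
  have hrange : Ω.map (embO m E) ≤ f.range := by
    rintro _ ⟨g, hg, rfl⟩
    exact ⟨⟨⟨embO m E g, omega_le_GMinus E hg⟩, Subtype.ext (psi_embGL E g.1)⟩, rfl⟩
  let N : Subgroup ↥(fixedPts (psiP m E.σσ)) := (Ω.map (embO m E)).comap f
  have hmem : ∀ g : ↥(fixedPts (psiP m E.σσ)), f g ∈ (embO m E).range := fun g =>
    mem_range_embO E (GPlus_le_OGrp g.1.2) (congrArg Subtype.val (g.2 : psiP m E.σσ g.1 = g.1))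
  haveI : N.Normal := ⟨fun x hx g => by
    obtain ⟨x', hx', e⟩ := hx
    obtain ⟨g', hg'⟩ := hmem g
    refine ⟨g' * x' * g'⁻¹, (inferInstance : Ω.Normal).conj_mem x' hx' g', ?_⟩
    rw [map_mul, map_mul, map_inv, hg', e, map_mul, map_mul, map_inv]⟩
  have hU : ∀ g : ↥(fixedPts (psiP m E.σσ)), ((g : ↥(GPlus m K)) : GL (Fin (dim m)) K) ∈ UPlus m K → g ∈ N := by
    intro g hg
    obtain ⟨g', hg'⟩ := hmem g
    exact ⟨g', unitri_le_omega E 2 hab (by rw [hg']; exact hg), hg'⟩
  have e1 : ↥N ≃* ↥(Ω.map (embO m E)) :=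
    (Subgroup.equivMapOfInjective N f hf).trans
      (MulEquiv.subgroupCongr (Subgroup.map_comap_eq_self hrange))
  exact concl_minus E.σσ N hU
    (centerQuot ((Ω.equivMapOfInjective (embO m E) (embO_injective E)).trans e1.symm))

end Cfsg.Agent.H78.SylAb
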