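import Cfsg.Agent.H54.ChevSylow
import Cfsg.Agent.H37.Chev.All
import Cfsg.Agent.H37.Twist.E6
import Cfsg.Agent.H37.Twist.D4
import Cfsg.Agent.H37.Twist.F4
import Cfsg.Agent.H78.SylAb.ClassicalSylow
import Cfsg.Agent.Suzuki.Simple
import Cfsg.Agent.Suzuki.Lie

/-!
Sylow 2-subgroups of the exceptional and twisted groups in characteristic two.
-/

set_option autoImplicit false
set_option maxRecDepth 100000
set_option linter.style.haveILetI false

namespace Cfsg.Agent.H78.SylAb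

open Cfsg.Lie Cfsg.Agent.H37 Cfsg.Agent.H37.NormalForm Cfsg.Agent.H37.RootSys
open scoped commutatorElement

/-! ### Chevalley groups -/

theorem concl_chev {F : Type*} [Field F] [Fintype F] [CharP F 2] (D : ChevalleyDatum)
    (hD : D ∈ [chevG2, chevB2, chevD4, chevF4, chevE6, chevE7, chevE8]) : Concl ↥(D.group F) := by
  obtain ⟨Q, -⟩ := Chev.exists_data hD F
  obtain ⟨P₀, hP₀⟩ := Cfsg.Agent.H54.ChevSt.exists_sylow Q 2
  have hP : (P₀ : Subgroup ↥(D.group F)) = (D.posUnipotent F).subgroupOf (D.group F) :=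
    hP₀.trans Q.amb_U
  have hle : D.posUnipotent F ≤ D.group F := Cfsg.Agent.H37.posUnipotent_le_group
  have hg : Gd (D.posUnipotent F) :=
    gd_of_generated {g | ∃ (r : ℕ) (t : F), D.IsPosRoot r ∧ (g : Matrix D.Idx D.Idx F) = D.x F r t}
      (fun g ⟨r, t, _, e⟩ => by
        obtain rfl : g = Q.K.xU F r t := Units.ext e
        rw [Q.K.xU_add, CharTwo.add_self_eq_zero, Q.K.xU_zero]) rfl
  intro P
  refine concl_of_gd (U := (P₀ : Subgroup ↥(D.group F))) P₀.isPGroup' P₀.not_dvd_index ?_ P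
  rw [hP]
  exact gd_subgroupOf hg hle

/-! ### Twisted groups -/

theorem gd_model {D : ChevalleyDatum} {K : Type*} [Field K] {Q : Chev.Data D K} {E : Twist.Endo Q}
    {W' : Type*} [Group W'] {Φ : Twist.Fold E W'} (Md : Twist.Model Φ) [Finite K]
    (hbase : ∀ j, Gd (Q.sys.Uw (Φ.ι (Φ.gens j)) ⊓ fixedPts E.σ)) :
    ∀ a : W', Gd (Q.sys.Uw (Φ.ι a) ⊓ fixedPts E.σ) := by
  intro a
  induction hN : Q.X.good.inv (Φ.ι a) using Nat.strong_induction_on generalizing a with
  | _ N ih =>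
    subst hN
    by_cases ha : a = 1
    · subst ha
      rw [map_one, Q.sys.Uw_one, bot_inf_eq]
      exact gd_bot
    obtain ⟨j, hj⟩ := Φ.desc a ha
    have hlt : Q.X.good.inv (Φ.ι (a * Φ.gens j)) < Q.X.good.inv (Φ.ι a) := by
      have := Twist.Model.inv_pos (Φ := Φ) j
      omega
    have ihg := ih _ hlt (a * Φ.gens j) rfl
    set s := Φ.ι (Φ.gens j) with hs
    set b := Φ.ι (a * Φ.gens j) with hb
    have hbs : b * s = Φ.ι a := by rw [hb, hs, ← map_mul, mul_assoc, Φ.sq_gens, mul_one]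
    rw [← hbs] at hj ⊢
    set m := Md.rep s with hm
    have hmσ : E.σ m = m := Md.TG_fixed (Md.rep_mem _)
    have hm' : ∃ k ∈ Q.sys.H, m = k * Q.sys.rep s := Md.rep_spec s
    have hrange := Q.sys.range_splitMap b s m hm' (by omega)
    have hmem : ∀ x ∈ Q.sys.Uw s, ∀ z ∈ Q.sys.Uw b, x * (m⁻¹ * z * m) ∈ Q.sys.Uw (b * s) :=
      fun x hx z hz => by
        have : Q.sys.splitMap b s m (⟨x, hx⟩, ⟨z, hz⟩) ∈ (Q.sys.Uw (b * s) : Set ↥(D.group K)) :=
          hrange ▸ ⟨_, rfl⟩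
        exact this
    refine gd_sup (hbase j) (gd_map ihg (MulAut.conj m⁻¹).toMonoidHom) ?_ ?_ ?_
    · rintro x ⟨hx, hxf⟩
      exact ⟨by simpa using hmem x hx 1 (one_mem _), hxf⟩
    · rintro _ ⟨z, ⟨hz, hzf⟩, rfl⟩
      have e : (MulAut.conj m⁻¹).toMonoidHom z = m⁻¹ * z * m := by simp
      rw [e]
      refine ⟨by simpa using hmem 1 (one_mem _) z hz, ?_⟩
      show E.σ (m⁻¹ * z * m) = _
      rw [map_mul, map_mul, map_inv, hmσ, show E.σ z = z from hzf]
      rfl
    · rintro v ⟨hv, hfix⟩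
      obtain ⟨⟨⟨x, hx⟩, ⟨z, hz⟩⟩, rfl⟩ : v ∈ Set.range (Q.sys.splitMap b s m) := by
        rw [hrange]; exact hv
      have htau : ∀ c, E.s.tau (Φ.ι c) = Φ.ι c := fun c => Twist.Model.tau_ι c
      have hx' : E.σ x ∈ Q.sys.Uw s := by have := E.σ_Uw hx; rwa [hs, htau] at this
      have hz' : E.σ z ∈ Q.sys.Uw b := by have := E.σ_Uw hz; rwa [hb, htau] at this
      have e : E.σ (x * (m⁻¹ * z * m)) = x * (m⁻¹ * z * m) := hfix
      rw [map_mul, map_mul, map_mul, map_inv, hmσ] at e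
      have h := Q.sys.splitMap_inj b s m hm'
        (a₁ := (⟨_, hx'⟩, ⟨_, hz'⟩)) (a₂ := (⟨x, hx⟩, ⟨z, hz⟩)) e
      simp only [Prod.mk.injEq, Subtype.mk.injEq] at h
      refine mul_mem (Subgroup.mem_sup_left ⟨hx, h.1⟩) (Subgroup.mem_sup_right ?_)
      exact ⟨z, ⟨hz, h.2⟩, by simp⟩

theorem isPGroup_of_card_pow {G : Type*} [Group G] [Finite G] {e M : ℕ} (he : e ≠ 0)
    (h : Nat.card G ^ e = 2 ^ M) : IsPGroup 2 G := by
  obtain ⟨k, -, hk⟩ := (Nat.dvd_prime_pow Nat.prime_two).1 (h ▸ dvd_pow_self (Nat.card G) he)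
  exact IsPGroup.of_card hk

theorem concl_model {D : ChevalleyDatum} {K : Type*} [Field K] {Q : Chev.Data D K} {E : Twist.Endo Q}
    {W' : Type*} [Group W'] {Φ : Twist.Fold E W'} (Md : Twist.Model Φ) [Finite K] [CharP K 2]
    (hbase : ∀ j, Gd (Q.sys.Uw (Φ.ι (Φ.gens j)) ⊓ fixedPts E.σ)) (he : Md.e ≠ 0) :
    Concl ↥Md.T := by
  haveI : Finite Q.X.M.Group := Finite.of_injective _ Q.X.good.hom_injective
  haveI : Finite W' := Finite.of_injective _ Φ.ι_inj
  cases nonempty_fintype K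
  obtain ⟨k, -, hk⟩ := FiniteField.card K 2
  have hK : Nat.card K = 2 ^ (k : ℕ) := by rw [Nat.card_eq_fintype_card, hk]
  have hUp : IsPGroup 2 ↥Md.tw.U :=
    isPGroup_of_card_pow (M := k * (D.nroots / 2)) he (by rw [Md.card_tw_U, hK, pow_mul])
  have hHp : ¬ 2 ∣ Nat.card ↥Md.tw.H := by
    refine fun h => Cfsg.Agent.H54.ChevSt.not_dvd_card_H Q 2 (h.trans ?_)
    rw [Md.tw_H, Q.amb_H, ← Subgroup.inf_subgroupOf_right,
      Nat.card_congr (Subgroup.subgroupOfEquivOfLe inf_le_right).toEquiv,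
      ← Nat.card_congr (Subgroup.subgroupOfEquivOfLe
        (show D.diagonalSubgroup K ⊓ Md.T ≤ D.group K from inf_le_right.trans Md.le_group)).toEquiv]
    exact Subgroup.card_dvd_of_le (Subgroup.comap_mono inf_le_left)
  have hne : ∀ w, w ≠ 1 → Md.tw.Uw w ≠ ⊥ := by
    intro w hw hbot
    have h := Md.card_tw_Uw w
    rw [hbot, Subgroup.card_bot, one_pow] at h
    have hpos : Q.X.good.inv (Φ.ι w) ≠ 0 := fun h0 =>
      hw (Φ.ι_inj ((Q.X.good.eq_one_of_inv_eq_zero h0).trans (map_one _).symm))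
    have := Nat.one_lt_pow hpos (Finite.one_lt_card (α := K))
    omega
  have hg : Gd Md.tw.U := by
    have h := gd_model Md hbase Md.w0
    rw [Md.Uw_ι_w0] at h
    have h' : Gd ((Q.sys.U).subgroupOf (fixedPts E.σ)) := by
      rw [← Subgroup.inf_subgroupOf_right]
      exact gd_subgroupOf h inf_le_right
    exact gd_map h' Md.iso.toMonoidHom
  have hidx := index_not_dvd Md.tw (N := (⊤ : Subgroup ↥Md.T)) le_top hUp hHp hne
  change ¬ 2 ∣ Md.tw.U.relIndex ⊤ at hidx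
  rw [Subgroup.relIndex_top_right] at hidx
  exact fun P => concl_of_gd hUp hidx hg P

theorem orbit_sq {D : ChevalleyDatum} {K : Type*} [Field K] [CharP K 2] {Q : Chev.Data D K}
    {E : Twist.Endo Q} (O : Twist.Orbit E) :
    Gd (Q.sys.Uw (Weyl.wOf Q.X.M O.word) ⊓ fixedPts E.σ) := by
  refine gd_of_exp_two fun v hv => ?_
  obtain ⟨t, rfl⟩ := Twist.exists_xprod Q O.sorted O.closed (O.Uw_eq ▸ hv.1)
  rw [← O.xprod_add]
  refine List.prod_eq_one fun g hg => ?_
  obtain ⟨r, hr, rfl⟩ := List.mem_map.1 hg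
  simp only [CharTwo.add_self_eq_zero]
  exact Q.sys.x_zero' (O.lt hr)

theorem concl_E6 {K : Type*} [Field K] [Fintype K] [CharP K 2] {q : ℕ} (hq : IsPrimePow q)
    (hK : Fintype.card K = q ^ 2) : Concl ↥(twistedE6 K q) := by
  obtain ⟨φ, hφ⟩ := Twist.exists_powHom hq hK
  set Md := Twist.E6.model hφ hK
  refine concl_model Md (fun (j : Fin 4) => ?_) (show (2 : ℕ) ≠ 0 by decide)
  rw [Twist.E6.ι_gen]
  exact orbit_sq (Twist.E6.orb φ j)

theorem concl_D4 {K : Type*} [Field K] [Fintype K] [CharP K 2] {q : ℕ} (hq : IsPrimePow q)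
    (hK : Fintype.card K = q ^ 3) : Concl ↥(twistedD4 K q) := by
  obtain ⟨φ, hφ⟩ := Twist.exists_powHom hq hK
  set Md := Twist.D4.model hφ hK
  refine concl_model Md (fun (j : Fin 2) => ?_) (show (3 : ℕ) ≠ 0 by decide)
  rw [Twist.D4.ι_gen]
  exact orbit_sq (Twist.D4.orb φ j)

/-! ### The Ree groups of type `F₄` -/

section F4

open Twist Twist.F4

variable {K : Type*} [Field K] [CharP K 2]

theorem class_coef : ∀ p ∈ [(pc.b, pc.ab), (pc.b, pc.aab), (pc.a, pc.ab), (pc.a, pc.aab)],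
    p.2 ≠ p.1 ∧ p.2 ≠ chevF4.neg p.1 ∧ ∀ c ∈ chevF4.commTerms p.1 p.2, c.2.1 % 2 = 0 := by
  decide +kernel

theorem four_mul [Finite K] (T U c d T' U' c' d' : K) :
    four pc T U c d * four pc T' U' c' d' =
      four pc (T + T') (U + U') (c + c' + T' * U) (d + d' + T' * U ^ 2) := by
  obtain ⟨-, -, -, -, -, -, -, -, hb, ha, hab, haab, -⟩ := four_ok pc (by simp)
  have hc : ∀ p ∈ [(pc.b, pc.ab), (pc.b, pc.aab), (pc.a, pc.ab), (pc.a, pc.aab)],
      p.1 < chevF4.nroots → p.2 < chevF4.nroots → ∀ t u : K,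
        Commute (xe p.1 t) (xe p.2 u) := by
    intro p hp h1 h2 t u
    obtain ⟨n1, n2, hco⟩ := class_coef p hp
    refine commute_coef h1 h2 n1 n2 (fun x hx => ?_) t u
    obtain ⟨k, hk⟩ := Int.dvd_of_emod_eq_zero (hco x hx)
    rw [hk, Int.cast_mul, Int.cast_ofNat, CharTwo.two_eq_zero, zero_mul]
  have hz : ∀ s t u : K, Commute (xe pc.ab s * xe pc.aab t) (xe pc.b u) := fun s t u =>
    (hc (pc.b, pc.ab) (by simp) hb hab u s).symm.mul_left (hc (pc.b, pc.aab) (by simp) hb haab u t).symm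
  have hz' : ∀ s t u : K, Commute (xe pc.ab s * xe pc.aab t) (xe pc.a u) := fun s t u =>
    (hc (pc.a, pc.ab) (by simp) ha hab u s).symm.mul_left (hc (pc.a, pc.aab) (by simp) ha haab u t).symm
  simp only [four]
  set Z := xe pc.ab c * xe pc.aab d
  set Z' := xe pc.ab c' * xe pc.aab d'
  set S := xe pc.ab (T' * U) * xe pc.aab (T' * U ^ 2)
  have h1 : Commute Z (xe pc.b T') := hz _ _ _
  have h2 : Commute Z (xe pc.a U') := hz' _ _ _
  have h3 : Commute S (xe pc.a U') := hz' _ _ _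
  calc xe pc.b T * xe pc.a U * Z * (xe pc.b T' * xe pc.a U' * Z')
      = xe pc.b T * xe pc.a U * (Z * (xe pc.b T' * xe pc.a U')) * Z' := by group
    _ = xe pc.b T * (xe pc.a U * xe pc.b T') * xe pc.a U' * Z * Z' := by
        rw [(h1.mul_right h2).eq]; group
    _ = xe pc.b T * xe pc.b T' * xe pc.a U * (S * xe pc.a U') * Z * Z' := by
        rw [Twist.F4.swap (by simp) T' U]; simp only [S, mul_assoc]
    _ = (xe pc.b T * xe pc.b T') * (xe pc.a U * xe pc.a U') * (S * (Z * Z')) := by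
        rw [h3.eq]; group
    _ = _ := by
        rw [← xe_add hb, ← xe_add ha]
        congr 1
        simp only [S, Z, Z']
        have k := top_commute (o := pc) (K := K) (by simp)
        rw [show xe pc.ab c * xe pc.aab d * (xe pc.ab c' * xe pc.aab d') =
            xe pc.ab c * xe pc.ab c' * (xe pc.aab d * xe pc.aab d') by
              rw [mul_assoc (xe pc.ab c), ← mul_assoc (xe pc.aab d), ← (k c' d).eq]; group,
          ← xe_add hab, ← xe_add haab, mul_assoc (xe pc.ab (T' * U)),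
          ← mul_assoc (xe pc.aab (T' * U ^ 2)), ← (k (c + c') (T' * U ^ 2)).eq]
        rw [mul_assoc (xe pc.ab (c + c')), ← xe_add haab, ← mul_assoc, ← xe_add hab,
          add_comm (T' * U), add_comm (T' * U ^ 2)]

theorem gd_class [Fintype K] {φ : K →+* K} {m : ℕ} (hm : 1 ≤ m)
    (hK : Fintype.card K = 2 ^ (2 * m + 1)) (hθ : ∀ t, φ (φ t) ^ 2 = t) :
    Gd ((QD K).sys.Uw ((fold φ).ι ((fold φ).gens (1 : Fin 2))) ⊓ fixedPts (endo φ).σ) := by
  refine gd_of_sq fun v hv => ?_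
  obtain ⟨t, c, rfl⟩ := exists_pr hv.1 hv.2
  obtain ⟨lam, hl⟩ : ∃ l : K, l + φ l ≠ 0 := by
    by_contra hcon
    push Not at hcon
    have hid : ∀ z : K, φ z = z := fun z => (CharTwo.add_eq_zero.1 (hcon z)).symm
    have h01 : ∀ z : K, z = 0 ∨ z = 1 := fun z => by
      have h := hθ z
      rw [hid, hid] at h
      have : z * (z - 1) = 0 := by linear_combination h
      exact (mul_eq_zero.1 this).imp id sub_eq_zero.1
    have hle : Fintype.card K ≤ 2 := by
      classical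
      rw [← Finset.card_univ]
      exact (Finset.card_le_card (fun z _ => by rcases h01 z with rfl | rfl <;> simp :
        (Finset.univ : Finset K) ⊆ {0, 1})).trans Finset.card_le_two
    have : 2 ^ 3 ≤ Fintype.card K := hK ▸ Nat.pow_le_pow_right (by norm_num) (by omega)
    omega
  set μ := lam + φ lam with hμ
  have hinj : Function.Injective fun a : K => a * φ a := by
    intro a b e
    simp only at e
    by_cases hb : b = 0
    · subst hb
      rw [zero_mul] at e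
      exact (mul_eq_zero.1 e).elim id fun h => φ.injective (h.trans (map_zero φ).symm)
    have ha : a ≠ 0 := fun h => by
      subst h
      rw [zero_mul] at e
      exact mul_ne_zero hb ((map_ne_zero φ).2 hb) e.symm
    set z := a / b
    have hz : z * φ z = 1 := by
      simp only [z, map_div₀]
      rw [div_mul_div_comm, e, div_self (mul_ne_zero hb ((map_ne_zero φ).2 hb))]
    have hz' : φ z = z⁻¹ := eq_inv_of_mul_eq_one_right hz
    have h2 := hθ z
    rw [hz', map_inv₀, hz', inv_inv] at h2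
    have hz0 : z ≠ 0 := div_ne_zero ha hb
    have : z = 1 := mul_left_cancel₀ hz0 (by rw [← pow_two, h2, mul_one])
    exact (div_eq_one_iff_eq hb).1 this
  obtain ⟨a, ha⟩ := (Finite.injective_iff_surjective.1 hinj) (t * φ t / μ)
  simp only at ha
  have ha' : μ * (a * φ a) = t * φ t := by rw [ha, mul_div_cancel₀ _ hl]
  have hb' : a * φ a ^ 2 * (lam + φ lam ^ 2) = t * φ t ^ 2 := by
    have h := congrArg (fun z => φ z ^ 2) ha'
    simp only [hμ, map_mul, map_add, mul_pow, hθ] at h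
    rw [CharTwo.add_sq, hθ] at h
    linear_combination h
  set x := pr pc φ a 0
  set y := pr pc φ (lam * a) 0
  have hx : x ∈ (QD K).sys.Uw ((fold φ).ι ((fold φ).gens (1 : Fin 2))) ⊓ fixedPts (endo φ).σ :=
    ⟨pr_Uw _ _, pr_fixed hθ (by simp) _ _⟩
  have hy : y ∈ (QD K).sys.Uw ((fold φ).ι ((fold φ).gens (1 : Fin 2))) ⊓ fixedPts (endo φ).σ :=
    ⟨pr_Uw _ _, pr_fixed hθ (by simp) _ _⟩
  have key : ⁅x, y⁆ = pr pc φ t c * pr pc φ t c := by
    rw [commutatorElement_def, mul_inv_eq_iff_eq_mul, mul_inv_eq_iff_eq_mul]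
    simp only [x, y, pr, four_mul]
    have h2 : (2 : K) = 0 := CharTwo.two_eq_zero
    congr 1
    · linear_combination -t * h2
    · linear_combination -(φ t) * h2
    · simp only [map_mul, hμ] at ha' ⊢
      linear_combination ha' - (c + a * φ lam * φ a + (lam * a + a) * φ t) * h2
    · simp only [map_mul]
      linear_combination hb' - (t * φ t ^ 2 + φ c ^ 2 + a * φ lam ^ 2 * φ a ^ 2 +
        2 * (lam * a + a) * φ t ^ 2 + 2 * (a * φ a * φ lam * φ t)) * h2
  rw [← key]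
  exact Subgroup.commutator_mem_commutator hx hy

theorem concl_F4 [Fintype K] {m : ℕ} (hm : 1 ≤ m) (hK : Fintype.card K = 2 ^ (2 * m + 1)) :
    Concl ↥(twistedF4 K (2 ^ m)) := by
  set φ : K →+* K := iterateFrobenius K 2 m
  have hφ : ∀ t, φ t = t ^ 2 ^ m := fun t => iterateFrobenius_def 2 m t
  set Md := Twist.F4.model hφ hK
  refine concl_model Md (fun (j : Fin 2) => ?_) (show (2 : ℕ) ≠ 0 by decide)
  rcases (show ∀ j : Fin 2, j = 0 ∨ j = 1 by decide) j with h | h <;> subst h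
  · rw [ι_gen0]
    exact orbit_sq (orb φ)
  · exact gd_class hm hK (theta hφ hK)

end F4

/-! ### Suzuki groups -/

theorem concl_suzuki {F : Type*} [Field F] [Fintype F] {m : ℕ} (hm : 1 ≤ m)
    (hF : Fintype.card F = 2 ^ (2 * m + 1)) : Concl ↥(Lie.Sz F (2 ^ (m + 1))) := by
  haveI : Cfsg.Agent.Suzuki.SzField F m := ⟨hF, hm⟩
  refine concl_of_equiv (Cfsg.Agent.Suzuki.lieEquiv m).symm fun P => ?_
  set U := (Cfsg.Agent.Suzuki.U m : Subgroup (Cfsg.Sz F m))
  have hg : Gd U := gd_of_sq fun g hg => by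
    obtain ⟨a, b, rfl⟩ := (Cfsg.Agent.Suzuki.mem_U m).1 hg
    rw [Cfsg.Agent.Suzuki.u_sq, ← Subgroup.map_subtype_commutator,
      ← Cfsg.Agent.Suzuki.center_U_eq_commutator]
    exact ⟨⟨_, Cfsg.Agent.Suzuki.u_mem_U m _ _⟩,
      (Cfsg.Agent.Suzuki.mem_center_U m).2 ⟨_, rfl⟩, rfl⟩
  exact concl_of_gd (Cfsg.Agent.Suzuki.isPGroup_U m)
    (Cfsg.Agent.Suzuki.sylowU (F := F) m).not_dvd_index hg P

end Cfsg.Agent.H78.SylAb
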