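import Cfsg.Prelude.Def_LieTypeChar
import Cfsg.Agent.H78.SylAb.ClassicalSylow
import Cfsg.Agent.H78.SylAb.Exceptional

/-!
Sylow 2-subgroups of groups of Lie type in characteristic two have elementary abelian abelianization.
-/

set_option autoImplicit false
set_option linter.unusedFintypeInType false

namespace Cfsg.Agent.H78.SylAb

open Cfsg Cfsg.Lie

theorem concl_lieType {G : Type*} [Group G] (hG : Cfsg.IsLieTypeChar 2 G) : Concl G := by
  rcases hG with h | h | h | h | h | h | h | h | h | h | h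
  · obtain ⟨F, _, _, _, n, -, -, ⟨e⟩⟩ := h
    exact concl_of_equiv e (concl_psl n)
  · obtain ⟨F, _, _, _, m, -, -, ⟨e⟩⟩ := h
    haveI : Finite (Cfsg.PSp m F) := by unfold Cfsg.PSp; infer_instance
    exact concl_of_equiv e (concl_psp m)
  · obtain ⟨F, _, _, _, n, q, hF, -, -, ⟨e⟩⟩ := h
    haveI : Finite (Cfsg.PSU n F q) := by unfold Cfsg.PSU; infer_instance
    exact concl_of_equiv e (concl_psu hF)
  · obtain ⟨F, _, _, _, m, -, hodd, -⟩ := h
    exact absurd (FiniteField.even_card_of_char_two (ringChar.eq F 2)) (Nat.not_even_iff_odd.2 hodd ∘ Nat.even_iff.2)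
  · obtain ⟨F, _, _, _, m, hm, ⟨e⟩⟩ := h
    obtain ⟨k, rfl⟩ : ∃ k, m = k + 1 := ⟨m - 1, by omega⟩
    haveI : Finite (Cfsg.POmega F (Cfsg.quadFormPlus (k + 1) F)) := by unfold Cfsg.POmega; infer_instance
    exact concl_of_equiv e (concl_pomega_plus (m := k) (by omega))
  · obtain ⟨F, _, _, _, m, a, b, -, hab, ⟨e⟩⟩ := h
    haveI : Finite (Cfsg.POmega F (Cfsg.quadFormMinus (m - 1) F a b)) := by
      unfold Cfsg.POmega; infer_instance
    exact concl_of_equiv e (concl_pomega_minus (m - 1) hab)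
  · obtain ⟨F, _, _, _, h⟩ := h
    rcases h with ⟨-, ⟨e⟩⟩ | ⟨⟨e⟩⟩ | ⟨⟨e⟩⟩ | ⟨⟨e⟩⟩ | ⟨⟨e⟩⟩
    all_goals exact concl_of_equiv e (concl_chev _ (by simp))
  · obtain ⟨K, _, _, _, q, hq, ⟨hK, ⟨e⟩⟩ | ⟨hK, ⟨e⟩⟩⟩ := h
    · exact concl_of_equiv e (concl_E6 hq hK)
    · exact concl_of_equiv e (concl_D4 hq hK)
  · obtain ⟨-, F, _, _, m, hm, hF, ⟨e⟩⟩ := h
    exact concl_of_equiv e (concl_suzuki hm hF)
  · obtain ⟨-, K, _, _, m, hm, hK, ⟨e⟩⟩ := h
    haveI : Fact (Nat.Prime 2) := ⟨Nat.prime_two⟩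
    haveI : CharP K 2 := charP_of_card_eq_prime_pow hK
    exact concl_of_equiv e (concl_F4 hm hK)
  · exact absurd h.1 (by norm_num)

end Cfsg.Agent.H78.SylAb
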